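import Mathlib.RingTheory.Localization.FractionRing
import Mathlib.LinearAlgebra.FiniteDimensional.Lemmas
import Mathlib.RingTheory.Noetherian.Basic
import Mathlib.RingTheory.Filtration
import Mathlib.RingTheory.DiscreteValuationRing.Basic

/-!
# Finite generation of submodules separated by functionals
-/

set_option autoImplicit false

universe u v

namespace Groth.Agent.Sga7.H331.Bdd

variable {R K D : Type*} [CommRing R] [IsDomain R] [Field K] [Algebra R K] [IsFractionRing R K]
  [AddCommGroup D] [Module K D] [Module R D] [IsScalarTower R K D]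

theorem exists_smul_mem (N : Submodule R D) (x : D) (hx : x ∈ Submodule.span K (N : Set D)) :
    ∃ r : R, r ≠ 0 ∧ r • x ∈ N := by
  induction hx using Submodule.span_induction with
  | mem x hx => exact ⟨1, one_ne_zero, by rw [one_smul]; exact hx⟩
  | zero => exact ⟨1, one_ne_zero, by rw [smul_zero]; exact zero_mem _⟩
  | add x y _ _ hx hy =>
    obtain ⟨r, hr, hrx⟩ := hx
    obtain ⟨s, hs, hsy⟩ := hy
    refine ⟨r * s, mul_ne_zero hr hs, ?_⟩
    rw [smul_add]
    refine add_mem ?_ ?_
    · rw [mul_comm, mul_smul]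
      exact N.smul_mem _ hrx
    · rw [mul_smul]
      exact N.smul_mem _ hsy
  | smul c x _ hx =>
    obtain ⟨r, hr, hrx⟩ := hx
    obtain ⟨z, w, hw, rfl⟩ := IsFractionRing.div_surjective (A := R) c
    refine ⟨w * r, mul_ne_zero (nonZeroDivisors.ne_zero hw) hr, ?_⟩
    have hwK : algebraMap R K w ≠ 0 :=
      (map_ne_zero_iff _ (IsFractionRing.injective R K)).mpr (nonZeroDivisors.ne_zero hw)
    have : (w * r) • (algebraMap R K z / algebraMap R K w) • x = z • r • x := by
      rw [← algebraMap_smul K (w * r), smul_smul, ← algebraMap_smul K r x, ← algebraMap_smul K z,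
        smul_smul, map_mul]
      congr 1
      field_simp
    rw [this]
    exact N.smul_mem _ hrx

/-- A submodule of a finite-dimensional space with enough functionals is finitely generated. -/
theorem fg_of_separating [IsNoetherianRing R] (W : Submodule K D) [FiniteDimensional K W]
    (E : Submodule R D) (hE : ∀ x ∈ E, x ∈ W) {T : Type v} (ev : T → (E →ₗ[R] R))
    (hev : ∀ x : E, (∀ a, ev a x = 0) → x = 0) : E.FG := by
  classical
  let N : Finset T → Submodule R D := fun F => (⨅ a ∈ F, LinearMap.ker (ev a)).map E.subtype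
  have hN : ∀ F x, x ∈ N F ↔ ∃ h : x ∈ E, ∀ a ∈ F, ev a ⟨x, h⟩ = 0 := by
    intro F x
    simp only [N, Submodule.mem_map, Submodule.mem_iInf, LinearMap.mem_ker, Submodule.coe_subtype]
    constructor
    · rintro ⟨y, hy, rfl⟩
      exact ⟨y.2, hy⟩
    · rintro ⟨h, hx⟩
      exact ⟨⟨x, h⟩, hx, rfl⟩
  let S : Finset T → Submodule K D := fun F => Submodule.span K (N F : Set D)
  have hSW : ∀ F, S F ≤ W := fun F => Submodule.span_le.mpr fun x hx => hE x ((hN F x).mp hx).1
  have hfin : ∀ F, FiniteDimensional K (S F) := fun F =>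
    Submodule.finiteDimensional_of_le (hSW F)
  let F := Function.argmin (fun F : Finset T => Module.finrank K (S F))
  have hF : ∀ F', Module.finrank K (S F) ≤ Module.finrank K (S F') := fun F' =>
    Function.argmin_le (fun F : Finset T => Module.finrank K (S F)) F'
  have hzero : ∀ x : E, (∀ a ∈ F, ev a x = 0) → x = 0 := by
    intro x hx
    apply hev
    intro a
    by_contra hax
    have hle : S (insert a F) ≤ S F := Submodule.span_mono fun y hy => by
      obtain ⟨h1, h2⟩ := (hN _ y).mp hy
      exact (hN _ y).mpr ⟨h1, fun b hb => h2 b (Finset.mem_insert_of_mem hb)⟩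
    have heq : S (insert a F) = S F := Submodule.eq_of_le_of_finrank_le hle (hF _)
    have hxS : (x : D) ∈ S (insert a F) := by
      rw [heq]
      exact Submodule.subset_span ((hN _ _).mpr ⟨x.2, hx⟩)
    obtain ⟨r, hr, hrx⟩ := exists_smul_mem _ _ hxS
    obtain ⟨h1, h2⟩ := (hN _ _).mp hrx
    have h3 := h2 a (Finset.mem_insert_self a F)
    have h4 : (⟨r • (x : D), h1⟩ : E) = r • x := rfl
    rw [h4, map_smul, smul_eq_mul] at h3
    exact (mul_ne_zero hr hax) h3
  have hinj : Function.Injective (LinearMap.pi (fun a : F => ev a.1)) := by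
    rw [← LinearMap.ker_eq_bot, LinearMap.ker_eq_bot']
    intro x hx
    apply hzero
    intro a ha
    exact congrFun hx ⟨a, ha⟩
  exact Module.Finite.iff_fg.mp (Module.Finite.of_injective _ hinj)

end Groth.Agent.Sga7.H331.Bdd
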