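import Groth.Agent.Dix.HenselPoints
import Groth.Agent.Flat2B.SmoothGeom
import Groth.Agent.Sga7.H331.Bdd
import Mathlib.RingTheory.TensorProduct.Quotient
import Mathlib.RingTheory.Multiplicity

/-!
# Evaluation of functions on smooth schemes over strictly henselian discrete valuation rings at sections

* `exists_eval`: a function which does not vanish on the closed fibre takes a unit value at some section.
* `fg_inf`: the intersection of a smooth domain `B` over `R` (with nonempty closed fibre) with a finite-dimensional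
  subspace of `B ⊗_R K` is a finitely generated `R`-module.
-/

set_option autoImplicit false

universe u

open CategoryTheory CategoryTheory.Limits AlgebraicGeometry TensorProduct

namespace Groth.Agent.Sga7.H331.Eval

theorem exists_prime {R : Type u} [CommRing R] [IsLocalRing R] (B : Type u) [CommRing B] [Algebra R B]
    [Algebra.Smooth R B] (b : B) (hb : b ∉ (IsLocalRing.maximalIdeal R).map (algebraMap R B)) :
    ∃ q : PrimeSpectrum B, b ∉ q.asIdeal ∧ (IsLocalRing.maximalIdeal R).map (algebraMap R B) ≤ q.asIdeal := by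
  let m := IsLocalRing.maximalIdeal R
  let _ : Field (R ⧸ m) := Ideal.Quotient.field m
  have h1 : IsReduced ((R ⧸ m) ⊗[R] B) :=
    Groth.Agent.Flat2B.SmoothGeom.isReduced_of_smooth_field (R ⧸ m) _
  have h2 : IsReduced (B ⧸ m.map (algebraMap R B)) :=
    isReduced_of_injective
      ((Algebra.TensorProduct.comm R B (R ⧸ m)).toRingEquiv.toRingHom.comp
        (Algebra.TensorProduct.quotIdealMapEquivTensorQuot B m).toRingEquiv.toRingHom)
      ((Algebra.TensorProduct.comm R B (R ⧸ m)).injective.comp
        (Algebra.TensorProduct.quotIdealMapEquivTensorQuot B m).injective)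
  have h3 : (m.map (algebraMap R B)).IsRadical := (Ideal.isRadical_iff_quotient_reduced _).mpr h2
  have h4 : b ∉ (m.map (algebraMap R B)).radical := by rwa [h3.radical]
  rw [Ideal.radical_eq_sInf, Submodule.mem_sInf] at h4
  push Not at h4
  obtain ⟨q, ⟨hq, hqp⟩, hbq⟩ := h4
  exact ⟨⟨q, hqp⟩, hbq, hq⟩

theorem exists_eval {R : Type u} [CommRing R] [IsLocalRing R]
    (hR : EtCoh.IsStrictlyHenselianLocalRing R) (B : Type u) [CommRing B] [Algebra R B]
    [Algebra.Smooth R B] (b : B) (hb : b ∉ (IsLocalRing.maximalIdeal R).map (algebraMap R B)) :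
    ∃ e : B →ₐ[R] R, IsUnit (e b) := by
  obtain ⟨q, hbq, hq⟩ := exists_prime B b hb
  let p : Spec (CommRingCat.of B) ⟶ Spec (CommRingCat.of R) :=
    Spec.map (CommRingCat.ofHom (algebraMap R B))
  have hp : Smooth p := by
    rw [HasRingHomProperty.Spec_iff (P := @Smooth)]
    exact (RingHom.smooth_algebraMap).mpr inferInstance
  have hqp : p q = IsLocalRing.closedPoint R := by
    apply PrimeSpectrum.ext
    change Ideal.comap (algebraMap R B) q.asIdeal = IsLocalRing.maximalIdeal R
    have h1 : IsLocalRing.maximalIdeal R ≤ Ideal.comap (algebraMap R B) q.asIdeal :=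
      Ideal.map_le_iff_le_comap.mp hq
    exact ((IsLocalRing.maximalIdeal.isMaximal R).eq_of_le
      (Ideal.IsPrime.comap (algebraMap R B)).ne_top h1).symm
  obtain ⟨a, ha, ha'⟩ := Groth.Agent.Dix.HenselPoints.exists_section hR (CommRingCat.of B) p q hqp
    (PrimeSpectrum.basicOpen b) hbq
  obtain ⟨ψ, rfl⟩ := Spec.map_surjective a
  have h1 : CommRingCat.ofHom (algebraMap R B) ≫ ψ = 𝟙 _ := by
    apply Spec.map_injective
    rw [Spec.map_comp, Spec.map_id]
    exact ha
  let e : B →ₐ[R] R :=
    { toRingHom := ψ.hom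
      commutes' := fun r => ConcreteCategory.congr_hom h1 r }
  refine ⟨e, ?_⟩
  have h2 : ψ.hom b ∉ IsLocalRing.maximalIdeal R := ha'
  by_contra h3
  exact h2 ((IsLocalRing.mem_maximalIdeal _).mpr h3)

open IsLocalRing in
/-- The functions in a finite-dimensional space which are regular on `Spec B` form a finitely generated
`R`-module. -/
theorem fg_inf {R K : Type u} [CommRing R] [IsDomain R] [IsDiscreteValuationRing R]
    (hR : EtCoh.IsStrictlyHenselianLocalRing R) [Field K] [Algebra R K] [IsFractionRing R K]
    (B : Type u) [CommRing B] [IsDomain B] [Algebra R B] [Algebra.Smooth R B]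
    (hB : (maximalIdeal R).map (algebraMap R B) ≠ ⊤)
    {D : Type u} [AddCommGroup D] [Module K D] [Module R D] [IsScalarTower R K D] (β : B →ₗ[R] D)
    (hβ : Function.Injective β) (W : Submodule K D) [FiniteDimensional K W] :
    (LinearMap.range β ⊓ W.restrictScalars R).FG := by
  obtain ⟨ϖ, hϖ⟩ := IsDiscreteValuationRing.exists_irreducible R
  have hmap : (maximalIdeal R).map (algebraMap R B) = Ideal.span {algebraMap R B ϖ} := by
    rw [hϖ.maximalIdeal_eq, Ideal.map_span, Set.image_singleton]
  have hnoeth : IsNoetherianRing B := Algebra.FiniteType.isNoetherianRing R B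
  have hu : ¬ IsUnit (algebraMap R B ϖ) := by
    intro h
    apply hB
    rw [hmap]
    exact Ideal.span_singleton_eq_top.mpr h
  have hflat : Module.Flat R B := inferInstance
  let E : Submodule R D := LinearMap.range β ⊓ W.restrictScalars R
  let g : E →ₗ[R] B := (LinearEquiv.ofInjective β hβ).symm.toLinearMap ∘ₗ
    Submodule.inclusion (inf_le_left : E ≤ LinearMap.range β)
  have hg : Function.Injective g :=
    (LinearEquiv.ofInjective β hβ).symm.injective.comp (Submodule.inclusion_injective _)
  refine Groth.Agent.Sga7.H331.Bdd.fg_of_separating (K := K) W E (fun x hx => hx.2)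
    (T := B →ₐ[R] R) (fun e => e.toLinearMap ∘ₗ g) ?_
  intro x hx
  apply hg
  rw [map_zero]
  by_contra h0
  obtain ⟨y, hy, hyb⟩ := (FiniteMultiplicity.of_not_isUnit hu h0).exists_eq_pow_mul_and_not_dvd
  have hy' : y ∉ (maximalIdeal R).map (algebraMap R B) := by
    rw [hmap, Ideal.mem_span_singleton]
    exact hyb
  obtain ⟨e, he⟩ := exists_eval hR B y hy'
  have h1 : e (g x) = 0 := hx e
  rw [hy, map_mul, map_pow, AlgHom.commutes] at h1
  exact mul_ne_zero (pow_ne_zero _ hϖ.ne_zero) he.ne_zero h1

end Groth.Agent.Sga7.H331.Eval
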