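import Groth.Agent.Sga7.H331.LD
import Groth.Agent.Sga7.H331.Eval
import Mathlib.RingTheory.Localization.BaseChange

/-!
# The ring of a chart

`D` a `K`-algebra, `D' = K' ⊗_K D = K' ⊗_{R'} B`; `C = B ×_{D'} D`. Under the hypotheses of lattice descent,
`B = R' ⊗_R C` and `D = K ⊗_R C`.
-/

set_option autoImplicit false

universe u

open IsLocalRing TensorProduct

namespace Groth.Agent.Sga7.H331.ChartRing

section defs

variable (R : Type u) [CommRing R] (B D D' : Type u) [CommRing B] [CommRing D] [CommRing D']
  [Algebra R B] [Algebra R D] [Algebra R D'] [Algebra B D'] [Algebra D D'] [IsScalarTower R B D']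
  [IsScalarTower R D D']

/-- The fibre product `B ×_{D'} D`. -/
def C : Subring (B × D) :=
  RingHom.eqLocus ((algebraMap B D').comp (RingHom.fst B D)) ((algebraMap D D').comp (RingHom.snd B D))

variable {B D} in
theorem mem_C (x : B × D) : x ∈ C B D D' ↔ algebraMap B D' x.1 = algebraMap D D' x.2 := Iff.rfl

theorem algebraMap_mem (r : R) : (algebraMap R B r, algebraMap R D r) ∈ C B D D' := by
  rw [mem_C]
  dsimp only
  rw [← IsScalarTower.algebraMap_apply R B D', ← IsScalarTower.algebraMap_apply R D D']

instance : Algebra R (C B D D') :=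
  (((algebraMap R B).prod (algebraMap R D)).codRestrict (C B D D')
    (fun r => algebraMap_mem R B D D' r)).toAlgebra

/-- The first projection. -/
def fstC : C B D D' →ₐ[R] B where
  toRingHom := (RingHom.fst B D).comp (C B D D').subtype
  commutes' _ := rfl

/-- The second projection. -/
def sndC : C B D D' →ₐ[R] D where
  toRingHom := (RingHom.snd B D).comp (C B D D').subtype
  commutes' _ := rfl

theorem algebraMap_fstC (c : C B D D') :
    algebraMap B D' (fstC R B D D' c) = algebraMap D D' (sndC R B D D' c) := c.2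

variable {B D D'} in
/-- Elements of `C`. -/
def mkC (b : B) (d : D) (h : algebraMap B D' b = algebraMap D D' d) : C B D D' := ⟨(b, d), h⟩

end defs

variable {R R' K K' : Type u} [CommRing R] [IsDomain R] [IsDiscreteValuationRing R]
  [CommRing R'] [IsDomain R'] [IsDiscreteValuationRing R'] [Algebra R R']
  [Field K] [Algebra R K] [IsFractionRing R K] [Field K'] [Algebra R' K'] [IsFractionRing R' K']
  [Algebra K K'] [Algebra R K'] [IsScalarTower R K K'] [IsScalarTower R R' K']
  {B D D' : Type u} [CommRing B] [CommRing D] [CommRing D']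
  [Algebra R B] [Algebra R' B] [IsScalarTower R R' B]
  [Algebra R D] [Algebra K D] [IsScalarTower R K D]
  [Algebra R D'] [Algebra R' D'] [Algebra K D'] [Algebra K' D'] [IsScalarTower R R' D']
  [IsScalarTower R K D'] [IsScalarTower R' K' D'] [IsScalarTower K K' D']
  [Algebra B D'] [Algebra D D'] [IsScalarTower R' B D'] [IsScalarTower K D D']
  [IsScalarTower R B D'] [IsScalarTower R D D']

omit [IsDomain R'] [IsDiscreteValuationRing R'] in
theorem isLocalization (hBD : Algebra.IsPushout R' B K' D') :
    IsLocalization (Algebra.algebraMapSubmonoid B (nonZeroDivisors R')) D' :=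
  (Algebra.isLocalization_iff_isPushout (nonZeroDivisors R') K').mpr hBD

omit [IsDiscreteValuationRing R'] in
/-- `B → D'` is injective. -/
theorem injective_algebraMap_B [IsDomain B] [Module.Flat R' B] (hBD : Algebra.IsPushout R' B K' D') :
    Function.Injective (algebraMap B D') := by
  have := isLocalization (R' := R') (K' := K') hBD
  have h1 : FaithfulSMul R' B := inferInstance
  have h2 := (faithfulSMul_iff_algebraMap_injective R' B).mp h1
  refine IsLocalization.injective (M := Algebra.algebraMapSubmonoid B (nonZeroDivisors R')) D' ?_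
  rintro _ ⟨r, hr, rfl⟩
  exact mem_nonZeroDivisors_of_ne_zero ((map_ne_zero_iff _ h2).mpr (nonZeroDivisors.ne_zero hr))

omit [Algebra R K'] [IsScalarTower R R' K'] [Algebra R B] [IsScalarTower R R' B]
  [IsScalarTower R B D'] in
theorem exists_smul_eq (hunif : ∀ ϖ : R, Irreducible ϖ → Irreducible (algebraMap R R' ϖ))
    (hBD : Algebra.IsPushout R' B K' D') (x : D') :
    ∃ r : R, r ≠ 0 ∧ ∃ b : B, algebraMap B D' b = r • x := by
  have := isLocalization (R' := R') (K' := K') hBD
  obtain ⟨⟨b, ⟨_, s, hs, rfl⟩⟩, hbs⟩ := IsLocalization.surj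
    (Algebra.algebraMapSubmonoid B (nonZeroDivisors R')) x
  dsimp only at hbs
  obtain ⟨ϖ, hϖ⟩ := IsDiscreteValuationRing.exists_irreducible R
  obtain ⟨n, u, rfl⟩ := IsDiscreteValuationRing.eq_unit_mul_pow_irreducible
    (nonZeroDivisors.ne_zero hs) (hunif ϖ hϖ)
  refine ⟨ϖ ^ n, pow_ne_zero _ hϖ.ne_zero, (↑u⁻¹ : R') • b, ?_⟩
  have h1 : algebraMap B D' ((↑u⁻¹ : R') • b) = (↑u⁻¹ : R') • algebraMap B D' b := by
    rw [Algebra.smul_def, map_mul, ← IsScalarTower.algebraMap_apply R' B D', Algebra.smul_def]
  rw [h1, ← hbs, ← algebraMap_smul R' (ϖ ^ n) x, ← IsScalarTower.algebraMap_apply R' B D', mul_comm,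
    ← Algebra.smul_def, smul_smul, ← mul_assoc, Units.inv_mul, one_mul, map_pow]

variable (K K') in
omit [IsScalarTower R D D'] in
/-- The span statement. -/
theorem mem_span (hunif : ∀ ϖ : R, Irreducible ϖ → Irreducible (algebraMap R R' ϖ))
    (hfix : LD.FixedRes R R') (hR' : EtCoh.IsStrictlyHenselianLocalRing R') [IsDomain B]
    [Algebra.Smooth R' B] (hBD : Algebra.IsPushout R' B K' D') (hDD : Algebra.IsPushout K D K' D')
    (s : (R' ≃ₐ[R] R') → D' →+* D') (hs : ∀ σ (b : R'), s σ (algebraMap R' D' b) = algebraMap R' D' (σ b))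
    (hsD : ∀ σ d, s σ (algebraMap D D' d) = algebraMap D D' d)
    (hsB : ∀ σ (b : B), ∃ b' : B, s σ (algebraMap B D' b) = algebraMap B D' b') (b : B) :
    algebraMap B D' b ∈ Submodule.span R' (Set.range (algebraMap B D') ∩ Set.range (algebraMap D D')) := by
  let ι : D →ₗ[K] D' := (IsScalarTower.toAlgHom K D D').toLinearMap
  have hι : IsBaseChange K' ι := hDD.symm.out
  let β : B →ₗ[R'] D' := (IsScalarTower.toAlgHom R' B D').toLinearMap
  have hflat : Module.Flat R' B := inferInstance
  have hβ : Function.Injective β := injective_algebraMap_B hBD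
  by_cases hB : (maximalIdeal R').map (algebraMap R' B) = ⊤
  · obtain ⟨ϖ, hϖ⟩ := IsDiscreteValuationRing.exists_irreducible R
    have hsurj : Function.Surjective (algebraMap B D') := by
      have hu : IsUnit (algebraMap R' B (algebraMap R R' ϖ)) := by
        rw [(hunif ϖ hϖ).maximalIdeal_eq, Ideal.map_span, Set.image_singleton] at hB
        exact Ideal.span_singleton_eq_top.mp hB
      intro x
      obtain ⟨r, hr, b, hb⟩ := exists_smul_eq (R := R) (K' := K') hunif hBD x
      obtain ⟨n, u, rfl⟩ := IsDiscreteValuationRing.eq_unit_mul_pow_irreducible hr hϖ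
      have hv : IsUnit (algebraMap R B (↑u * ϖ ^ n)) := by
        rw [map_mul, map_pow, IsScalarTower.algebraMap_apply R R' B ϖ]
        exact (u.isUnit.map _).mul (hu.pow n)
      obtain ⟨v, hv⟩ := hv
      refine ⟨↑v⁻¹ * b, ?_⟩
      rw [map_mul, hb, Algebra.smul_def, IsScalarTower.algebraMap_apply R B D', ← hv, ← mul_assoc,
        ← map_mul, Units.inv_mul, map_one, one_mul]
    have hb := LD.isBaseChange (LD.isPushout hunif) ι hι
    obtain ⟨y, hy⟩ := hb.equiv.surjective (algebraMap B D' b)
    rw [← hy]
    clear hy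
    induction y with
    | zero => rw [map_zero]; exact zero_mem _
    | add y z hy hz => rw [map_add]; exact add_mem hy hz
    | tmul r d =>
      rw [hb.equiv_tmul]
      exact Submodule.smul_mem _ _ (Submodule.subset_span ⟨hsurj _, ⟨d, rfl⟩⟩)
  · refine LD.mem_span hunif hfix ι hι (LinearMap.range β) (fun σ => (s σ).toAddMonoidHom)
      (fun σ b x => ?_) (fun σ d => hsD σ d) ?_ ?_ ?_ (β b) ⟨b, rfl⟩
    · change s σ (b • x) = σ b • s σ x
      rw [Algebra.smul_def, map_mul, hs, Algebra.smul_def]
    · rintro σ _ ⟨c, rfl⟩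
      obtain ⟨c', hc'⟩ := hsB σ c
      exact ⟨c', hc'.symm⟩
    · intro d
      obtain ⟨r, hr, b', hb'⟩ := exists_smul_eq (R := R) (K' := K') hunif hBD (algebraMap D D' d)
      refine ⟨r, hr, b', ?_⟩
      rw [LinearMap.map_smul_of_tower]
      exact hb'
    · intro t
      have : FiniteDimensional K' (Submodule.span K' (ι '' (t : Set D))) :=
        FiniteDimensional.span_of_finite K' (Set.toFinite _)
      exact Eval.fg_inf hR' B hB β hβ _

variable (K K') in
/-- **`B = R' ⊗_R C`.** -/
theorem isBaseChange_fst (hunif : ∀ ϖ : R, Irreducible ϖ → Irreducible (algebraMap R R' ϖ))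
    (hfix : LD.FixedRes R R') (hR' : EtCoh.IsStrictlyHenselianLocalRing R') [IsDomain B]
    [Algebra.Smooth R' B] (hBD : Algebra.IsPushout R' B K' D') (hDD : Algebra.IsPushout K D K' D')
    (s : (R' ≃ₐ[R] R') → D' →+* D') (hs : ∀ σ (b : R'), s σ (algebraMap R' D' b) = algebraMap R' D' (σ b))
    (hsD : ∀ σ d, s σ (algebraMap D D' d) = algebraMap D D' d)
    (hsB : ∀ σ (b : B), ∃ b' : B, s σ (algebraMap B D' b) = algebraMap B D' b') :
    IsBaseChange R' (fstC R B D D').toLinearMap := by
  let ι : D →ₗ[K] D' := (IsScalarTower.toAlgHom K D D').toLinearMap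
  have hι : IsBaseChange K' ι := hDD.symm.out
  have hff : Module.FaithfullyFlat R R' := LD.faithfullyFlat hunif
  have hb := LD.isBaseChange (LD.isPushout hunif) ι hι
  have hflat : Module.Flat R' B := inferInstance
  have hβ : Function.Injective (algebraMap B D') := injective_algebraMap_B hBD
  let f : R' ⊗[R] (C B D D') →ₗ[R'] B := (fstC R B D D').toLinearMap.liftBaseChange R'
  have hinjC : Function.Injective (sndC R B D D').toLinearMap := by
    intro c c' h
    apply Subtype.ext
    apply Prod.ext
    · apply hβ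
      have h1 := algebraMap_fstC R B D D' c
      have h2 := algebraMap_fstC R B D D' c'
      have h3 : sndC R B D D' c = sndC R B D D' c' := h
      rw [h3, ← h2] at h1
      exact h1
    · exact h
  let g : R' ⊗[R] (C B D D') →ₗ[R'] D' := (hb.equiv.toLinearMap ∘ₗ (sndC R B D D').toLinearMap.baseChange R')
  have hginj : Function.Injective g :=
    hb.equiv.injective.comp (Module.Flat.lTensor_preserves_injective_linearMap _ hinjC)
  have hfg : ∀ x, algebraMap B D' (f x) = g x := by
    intro x
    induction x with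
    | zero => rw [map_zero, map_zero, map_zero]
    | add x y hx hy => rw [map_add, map_add, map_add, hx, hy]
    | tmul r c =>
      have h1 : f (r ⊗ₜ c) = r • fstC R B D D' c := LinearMap.liftBaseChange_tmul _ _ _ _
      have h2 : g (r ⊗ₜ c) = r • algebraMap D D' (sndC R B D D' c) := hb.equiv_tmul _ _
      rw [h1, h2, Algebra.smul_def, map_mul, ← IsScalarTower.algebraMap_apply R' B D',
        algebraMap_fstC, Algebra.smul_def]
  have hfbij : Function.Bijective f := by
    constructor
    · intro x y hxy
      apply hginj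
      rw [← hfg, ← hfg, hxy]
    · intro b
      have h1 := mem_span K K' hunif hfix hR' hBD hDD s hs hsD hsB b
      have h2 : ∀ x ∈ Submodule.span R' (Set.range (algebraMap B D') ∩ Set.range (algebraMap D D')),
          ∃ y, g y = x := by
        intro x hx
        have h3 : Submodule.span R' (Set.range (algebraMap B D') ∩ Set.range (algebraMap D D')) ≤
            LinearMap.range g := by
          rw [Submodule.span_le]
          rintro _ ⟨⟨b', rfl⟩, d, hd⟩
          refine ⟨1 ⊗ₜ (mkC (D' := D') b' d hd.symm), ?_⟩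
          rw [← hfg]
          congr 1
          exact (LinearMap.liftBaseChange_tmul _ _ _ _).trans (one_smul _ _)
        exact h3 hx
      obtain ⟨y, hy⟩ := h2 _ h1
      refine ⟨y, hβ ?_⟩
      rw [hfg, hy]
  exact IsBaseChange.of_equiv (LinearEquiv.ofBijective f hfbij) (fun x =>
    (LinearMap.liftBaseChange_tmul _ _ _ _).trans (one_smul _ _))

/-- **`D = K ⊗_R C`.** -/
theorem isBaseChange_snd (hunif : ∀ ϖ : R, Irreducible ϖ → Irreducible (algebraMap R R' ϖ))
    [IsDomain B] [Module.Flat R' B] (hBD : Algebra.IsPushout R' B K' D') :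
    IsBaseChange K (sndC R B D D').toLinearMap := by
  have hβ : Function.Injective (algebraMap B D') := injective_algebraMap_B hBD
  have hinjC : Function.Injective (sndC R B D D').toLinearMap := by
    intro c c' h
    apply Subtype.ext
    apply Prod.ext
    · apply hβ
      have h1 := algebraMap_fstC R B D D' c
      have h2 := algebraMap_fstC R B D D' c'
      have h3 : sndC R B D D' c = sndC R B D D' c' := h
      rw [h3, ← h2] at h1
      exact h1
    · exact h
  rw [← isLocalizedModule_iff_isBaseChange (nonZeroDivisors R)]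
  constructor
  · intro r
    have hr : algebraMap R K r ≠ 0 :=
      (map_ne_zero_iff _ (IsFractionRing.injective R K)).mpr (nonZeroDivisors.ne_zero r.2)
    rw [Module.End.isUnit_iff]
    have hsm : ∀ x : D, algebraMap R (Module.End R D) r x = algebraMap R K r • x := fun x => by
      rw [Module.algebraMap_end_apply, algebraMap_smul]
    constructor
    · intro x y hxy
      rw [hsm, hsm] at hxy
      exact smul_right_injective _ hr hxy
    · intro x
      refine ⟨(algebraMap R K r)⁻¹ • x, ?_⟩
      rw [hsm, smul_smul, mul_inv_cancel₀ hr, one_smul]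
  · intro d
    obtain ⟨r, hr, b, hb⟩ := exists_smul_eq (R := R) (K' := K') hunif hBD (algebraMap D D' d)
    refine ⟨⟨mkC (D' := D') b (r • d) ?_, ⟨r, mem_nonZeroDivisors_of_ne_zero hr⟩⟩, rfl⟩
    rw [hb, Algebra.smul_def, Algebra.smul_def, map_mul, ← IsScalarTower.algebraMap_apply]
  · intro c c' h
    exact ⟨1, by rw [hinjC h]⟩

end Groth.Agent.Sga7.H331.ChartRing
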