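import Mathlib.AlgebraicGeometry.Morphisms.FlatDescent
import Mathlib.AlgebraicGeometry.Cover.Directed
import Mathlib.AlgebraicGeometry.RelativeGluing
import Groth.Agent.CalgA.TwoGlue

/-!
# Gluing along a locally directed diagram which is known after faithfully flat base change

`F : J ⥤ Scheme` a diagram over `S`, `S₁ ⟶ S` faithfully flat and quasi-compact, `Y₁` a scheme over `S₁` with a
locally directed open covering by the `F i ×_S S₁`. Then `F` is a locally directed diagram of open immersions,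
its colimit `X` satisfies `X ×_S S₁ = Y₁`, and if `Y₂` over `S₂ ⟶ S` has a locally directed open covering by
the `F i ×_S S₂`, then `X ×_S S₂ = Y₂`.
-/

set_option autoImplicit false

universe u

open CategoryTheory CategoryTheory.Limits AlgebraicGeometry

namespace Groth.Agent.Sga7.H331.DirGlue

/-- A locally directed open covering of `Y` indexed by `J`. -/
structure DirCover (Y : Scheme.{u}) (J : Type u) [SmallCategory J] where
  /-- the members -/
  G : J ⥤ Scheme.{u}
  /-- the inclusions -/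
  g : ∀ i, G.obj i ⟶ Y
  w : ∀ {i j : J} (a : i ⟶ j), G.map a ≫ g j = g i
  op : ∀ i, IsOpenImmersion (g i)
  surj : ∀ y : Y, ∃ (i : J) (x : G.obj i), g i x = y
  dir : ∀ (i j : J) (x : G.obj i) (x' : G.obj j), g i x = g j x' →
    ∃ (l : J) (a : l ⟶ i) (b : l ⟶ j) (z : G.obj l), G.map a z = x ∧ G.map b z = x'

attribute [instance] DirCover.op

namespace DirCover

variable {Y : Scheme.{u}} {J : Type u} [SmallCategory J] (D : DirCover Y J)

instance {i j : J} (a : i ⟶ j) : IsOpenImmersion (D.G.map a) := by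
  have : IsOpenImmersion (D.G.map a ≫ D.g j) := by rw [D.w a]; infer_instance
  exact IsOpenImmersion.of_comp _ (D.g j)

/-- The associated open cover. -/
@[simps I₀ X f]
noncomputable def cover : Y.OpenCover where
  I₀ := J
  X i := D.G.obj i
  f i := D.g i
  mem₀ := by
    rw [Scheme.presieve₀_mem_precoverage_iff]
    exact ⟨fun y => D.surj y, fun i => D.op i⟩

noncomputable instance : Category D.cover.I₀ := inferInstanceAs (Category J)

noncomputable instance : D.cover.LocallyDirected where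
  trans {i j} a := D.G.map a
  trans_id i := D.G.map_id i
  trans_comp a b := D.G.map_comp a b
  w a := D.w a
  directed {i j} x := by
    let xi := pullback.fst (D.g i) (D.g j) x
    let xj := pullback.snd (D.g i) (D.g j) x
    obtain ⟨l, a, b, z, hz, hz'⟩ := D.dir i j xi xj (by
      simp only [xi, xj, ← Scheme.Hom.comp_apply]
      rw [pullback.condition])
    refine ⟨l, a, b, z, ?_⟩
    apply (pullback.fst (D.g i) (D.g j)).injective
    change (pullback.fst (D.g i) (D.g j)) (pullback.lift (D.G.map a) (D.G.map b) _ z) = _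
    rw [← Scheme.Hom.comp_apply, pullback.lift_fst]
    exact hz
  property_trans {i j} a := inferInstanceAs (IsOpenImmersion (D.G.map a))

instance : (D.G ⋙ Scheme.forget).IsLocallyDirected :=
  inferInstanceAs (D.cover.functorOfLocallyDirected ⋙ Scheme.forget).IsLocallyDirected

end DirCover

section descend

variable {J : Type u} [SmallCategory J] {F G : J ⥤ Scheme.{u}} (α : G ⟶ F)

/-- The target of a surjective equifibered transformation is locally directed if the source is. -/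
theorem isLocallyDirected_of_surjective (hα : α.Equifibered) (hs : ∀ i, Surjective (α.app i))
    [(G ⋙ Scheme.forget).IsLocallyDirected] : (F ⋙ Scheme.forget).IsLocallyDirected where
  cond {i j k} fi fj xi xj heq := by
    have heq' : F.map fi xi = F.map fj xj := heq
    obtain ⟨yk, hyk⟩ := (hs k).1 (F.map fi xi)
    obtain ⟨yi, hyi, hyi'⟩ := Scheme.exists_preimage_of_isPullback (hα fi) yk xi hyk
    obtain ⟨yj, hyj, hyj'⟩ := Scheme.exists_preimage_of_isPullback (hα fj) yk xj (hyk.trans heq')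
    obtain ⟨l, fli, flj, y, h1, h2⟩ := (G ⋙ Scheme.forget).exists_map_eq_of_isLocallyDirected fi fj
      yi yj (hyi.trans hyj.symm)
    have h1' : G.map fli y = yi := h1
    have h2' : G.map flj y = yj := h2
    refine ⟨l, fli, flj, α.app l y, ?_, ?_⟩
    · change F.map fli (α.app l y) = xi
      rw [← hyi', ← h1', ← Scheme.Hom.comp_apply, ← Scheme.Hom.comp_apply, α.naturality]
    · change F.map flj (α.app l y) = xj
      rw [← hyj', ← h2', ← Scheme.Hom.comp_apply, ← Scheme.Hom.comp_apply, α.naturality]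

theorem isOpenImmersion_of_equifibered (hα : α.Equifibered) (hs : ∀ i, Surjective (α.app i))
    (hf : ∀ i, Flat (α.app i)) (hq : ∀ i, QuasiCompact (α.app i))
    [∀ {i j} (f : i ⟶ j), IsOpenImmersion (G.map f)] {i j : J} (f : i ⟶ j) :
    IsOpenImmersion (F.map f) :=
  MorphismProperty.of_isPullback_of_descendsAlong (P := @IsOpenImmersion)
    (Q := @Surjective ⊓ @Flat ⊓ @QuasiCompact) (hα f) ⟨⟨hs j, hf j⟩, hq j⟩ inferInstance

end descend

section glue

variable {J : Type u} [SmallCategory J] [Quiver.IsThin J] {F : J ⥤ Scheme.{u}}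
  [∀ {i j : J} (f : i ⟶ j), IsOpenImmersion (F.map f)] [(F ⋙ Scheme.forget).IsLocallyDirected]

theorem map_comp_ι {Y : Scheme.{u}} (D : DirCover Y J) (α : D.G ⟶ F) {i j : J} (a : i ⟶ j) :
    D.G.map a ≫ α.app j ≫ colimit.ι F j = α.app i ≫ colimit.ι F i := by
  rw [← Category.assoc, α.naturality, Category.assoc, colimit.w]

/-- The morphism to the colimit. -/
noncomputable def toColim {Y : Scheme.{u}} (D : DirCover Y J) (α : D.G ⟶ F) : Y ⟶ colimit F :=
  D.cover.glueMorphismsOfLocallyDirected (fun i => α.app i ≫ colimit.ι F i) (map_comp_ι D α)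

theorem g_toColim {Y : Scheme.{u}} (D : DirCover Y J) (α : D.G ⟶ F) (i : J) :
    D.g i ≫ toColim D α = α.app i ≫ colimit.ι F i :=
  D.cover.map_glueMorphismsOfLocallyDirected (fun i => α.app i ≫ colimit.ι F i) (map_comp_ι D α) i

theorem isPullback_toColim {Y : Scheme.{u}} (D : DirCover Y J) (α : D.G ⟶ F) (hα : α.Equifibered)
    (i : J) : IsPullback (D.g i) (α.app i) (toColim D α) (colimit.ι F i) := by
  refine ⟨⟨g_toColim D α i⟩, ⟨PullbackCone.IsLimit.mk _ ?_ ?_ ?_ ?_⟩⟩
  · intro s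
    apply IsOpenImmersion.lift (D.g i) s.fst
    rintro _ ⟨t, rfl⟩
    obtain ⟨k, x, hx⟩ := D.surj (s.fst t)
    have h1 : colimit.ι F k (α.app k x) = colimit.ι F i (s.snd t) := by
      rw [← Scheme.Hom.comp_apply, ← g_toColim, Scheme.Hom.comp_apply, hx, ← Scheme.Hom.comp_apply,
        s.condition, Scheme.Hom.comp_apply]
    obtain ⟨l, a, b, z, hz, hz'⟩ := (Scheme.IsLocallyDirected.ι_eq_ι_iff F).mp h1
    obtain ⟨y, hy, hy'⟩ := Scheme.exists_preimage_of_isPullback (hα a) x z hz.symm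
    refine ⟨D.G.map b y, ?_⟩
    rw [← hx, ← hy, ← Scheme.Hom.comp_apply, ← Scheme.Hom.comp_apply, D.w, D.w]
  · intro s
    exact IsOpenImmersion.lift_fac _ _ _
  · intro s
    rw [← cancel_mono (colimit.ι F i), Category.assoc, ← g_toColim,
      IsOpenImmersion.lift_fac_assoc, s.condition]
  · intro s m h1 h2
    rw [← cancel_mono (D.g i), IsOpenImmersion.lift_fac, h1]

theorem isPullback_of_colim {Y S S' : Scheme.{u}} (t : S' ⟶ S) (y : Y ⟶ S') (D : DirCover Y J)
    (α : D.G ⟶ F) (hα : α.Equifibered) (x : colimit F ⟶ S)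
    (h : ∀ i, IsPullback (α.app i) (D.g i ≫ y) (colimit.ι F i ≫ x) t) :
    IsPullback (toColim D α) y x t := by
  refine Groth.Agent.CalgA.TwoGlue.isPullback_of_cover ?_ (Scheme.IsLocallyDirected.openCover F)
    D.G.obj (fun i => D.g i) (fun i => α.app i) (fun i => isPullback_toColim D α hα i) h
  refine D.cover.hom_ext _ _ fun i => ?_
  change D.g i ≫ toColim D α ≫ x = D.g i ≫ y ≫ t
  rw [← Category.assoc, g_toColim, ← Category.assoc, ← (h i).w, Category.assoc]

end glue

theorem equifibered_of_isPullback {J : Type u} [SmallCategory J] {F G : J ⥤ Scheme.{u}}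
    (α : G ⟶ F) {S S' : Scheme.{u}} (t : S' ⟶ S) (s : ∀ i, F.obj i ⟶ S) (s' : ∀ i, G.obj i ⟶ S')
    (hs : ∀ {i j : J} (a : i ⟶ j), F.map a ≫ s j = s i)
    (hs' : ∀ {i j : J} (a : i ⟶ j), G.map a ≫ s' j = s' i)
    (h : ∀ i, IsPullback (α.app i) (s' i) (s i) t) : α.Equifibered := by
  intro i j a
  have h1 : IsPullback (α.app i) (G.map a ≫ s' j) (F.map a ≫ s j) t := by
    rw [hs, hs']
    exact h i
  exact (IsPullback.of_bot h1 (α.naturality a).symm (h j)).flip

/-- **Gluing along a diagram known after faithfully flat base change.** -/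
theorem exists_glue {J : Type u} [SmallCategory J] [Quiver.IsThin J] {S S₁ S₂ : Scheme.{u}}
    (t₁ : S₁ ⟶ S) (t₂ : S₂ ⟶ S) [Flat t₁] [Surjective t₁] [QuasiCompact t₁]
    {Y₁ Y₂ : Scheme.{u}} (y₁ : Y₁ ⟶ S₁) (y₂ : Y₂ ⟶ S₂) (D₁ : DirCover Y₁ J) (D₂ : DirCover Y₂ J)
    (F : J ⥤ Scheme.{u}) (s : ∀ i, F.obj i ⟶ S)
    (hs : ∀ {i j : J} (a : i ⟶ j), F.map a ≫ s j = s i)
    (α₁ : D₁.G ⟶ F) (h₁ : ∀ i, IsPullback (α₁.app i) (D₁.g i ≫ y₁) (s i) t₁)
    (α₂ : D₂.G ⟶ F) (h₂ : ∀ i, IsPullback (α₂.app i) (D₂.g i ≫ y₂) (s i) t₂) :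
    ∃ (X : Scheme.{u}) (x : X ⟶ S) (f₁ : Y₁ ⟶ X) (f₂ : Y₂ ⟶ X) (ι : ∀ i, F.obj i ⟶ X),
      (∀ i, IsOpenImmersion (ι i)) ∧ (∀ z : X, ∃ (i : J) (y : F.obj i), ι i y = z) ∧
      (∀ {i j : J} (a : i ⟶ j), F.map a ≫ ι j = ι i) ∧ (∀ i, ι i ≫ x = s i) ∧
      (∀ i, D₁.g i ≫ f₁ = α₁.app i ≫ ι i) ∧ (∀ i, D₂.g i ≫ f₂ = α₂.app i ≫ ι i) ∧
      IsPullback f₁ y₁ x t₁ ∧ IsPullback f₂ y₂ x t₂ := by
  have e₁ : α₁.Equifibered := equifibered_of_isPullback α₁ t₁ s (fun i => D₁.g i ≫ y₁) hs
    (fun a => by rw [← Category.assoc, D₁.w]) h₁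
  have e₂ : α₂.Equifibered := equifibered_of_isPullback α₂ t₂ s (fun i => D₂.g i ≫ y₂) hs
    (fun a => by rw [← Category.assoc, D₂.w]) h₂
  have hsurj : ∀ i, Surjective (α₁.app i) := fun i =>
    MorphismProperty.of_isPullback (P := @Surjective) (h₁ i).flip inferInstance
  have hflat : ∀ i, Flat (α₁.app i) := fun i =>
    MorphismProperty.of_isPullback (P := @Flat) (h₁ i).flip inferInstance
  have hqc : ∀ i, QuasiCompact (α₁.app i) := fun i =>
    MorphismProperty.of_isPullback (P := @QuasiCompact) (h₁ i).flip inferInstance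
  have hop : ∀ {i j : J} (f : i ⟶ j), IsOpenImmersion (F.map f) := fun f =>
    isOpenImmersion_of_equifibered α₁ e₁ hsurj hflat hqc f
  have hdir : (F ⋙ Scheme.forget).IsLocallyDirected := isLocallyDirected_of_surjective α₁ e₁ hsurj
  let x : colimit F ⟶ S := colimit.desc F ⟨S,
    { app := s
      naturality := fun i j a => by
        rw [hs a]
        exact (Category.comp_id _).symm }⟩
  have hx : ∀ i, colimit.ι F i ≫ x = s i := fun i => colimit.ι_desc _ _
  refine ⟨colimit F, x, toColim D₁ α₁, toColim D₂ α₂, fun i => colimit.ι F i, fun i => inferInstance,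
    fun z => Scheme.IsLocallyDirected.ι_jointly_surjective F z, fun a => colimit.w F a, hx,
    fun i => g_toColim D₁ α₁ i, fun i => g_toColim D₂ α₂ i, ?_, ?_⟩
  · exact isPullback_of_colim t₁ y₁ D₁ α₁ e₁ x (fun i => by rw [hx]; exact h₁ i)
  · exact isPullback_of_colim t₂ y₂ D₂ α₂ e₂ x (fun i => by rw [hx]; exact h₂ i)

end Groth.Agent.Sga7.H331.DirGlue
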