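import Groth.Agent.Sga7.H331.Sec
import Groth.Agent.Sga7.H331.DirGlue
import Groth.Agent.Sga7.H331.ChartRing
import Mathlib.AlgebraicGeometry.Morphisms.Smooth

/-!
# Charts of a scheme over `R'` which are stable under `Aut(R'/R)`
-/

set_option autoImplicit false

universe u

open CategoryTheory CategoryTheory.Limits AlgebraicGeometry

namespace Groth.Agent.Sga7.H331

/-- A scheme `X` over `R'` whose generic fibre is the base change of `A` over `K`. -/
structure Data (R' K K' : Type u) [CommRing R'] [Field K] [Field K'] [Algebra R' K']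
    [Algebra K K'] where
  /-- the scheme over `K` -/
  A : Scheme.{u}
  /-- the scheme over `R'` -/
  X : Scheme.{u}
  /-- the generic fibre of `X` -/
  P : Scheme.{u}
  /-- structure morphism -/
  a : A ⟶ Spec (CommRingCat.of K)
  /-- structure morphism -/
  x : X ⟶ Spec (CommRingCat.of R')
  /-- structure morphism -/
  b : P ⟶ Spec (CommRingCat.of K')
  /-- projection -/
  p : P ⟶ A
  /-- inclusion of the generic fibre -/
  j : P ⟶ X
  hA : IsPullback p b a (Spec.map (CommRingCat.ofHom (algebraMap K K')))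
  hX : IsPullback j b x (Spec.map (CommRingCat.ofHom (algebraMap R' K')))

namespace Data

variable {R R' K K' : Type u} [CommRing R] [CommRing R'] [Algebra R R'] [Field K] [Field K']
  [Algebra R' K'] [Algebra K K'] (E : Data R' K K')

/-- An extension to `X` of the automorphism `1 × σ` of the generic fibre. -/
structure Lift (E : Data R' K K') (σ : R' ≃ₐ[R] R') where
  /-- the morphism -/
  φ : E.X ⟶ E.X
  /-- its restriction to the generic fibre -/
  ψ : E.P ⟶ E.P
  hφ : φ ≫ E.x = E.x ≫ Spec.map (CommRingCat.ofHom (σ : R' →+* R'))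
  hψ : E.j ≫ φ = ψ ≫ E.j
  hp : ψ ≫ E.p = E.p

variable {E}

/-- An affine chart stable under `Aut(R'/R)` with generic fibre defined over `K`. -/
@[ext]
structure Chart (L : ∀ σ : R' ≃ₐ[R] R', E.Lift σ) where
  /-- the open of `X` -/
  U : E.X.Opens
  /-- the open of `A` -/
  V : E.A.Opens
  hU : IsAffineOpen U
  hV : IsAffineOpen V
  ne : (U : Set E.X).Nonempty
  hUV : E.p ⁻¹ᵁ V = E.j ⁻¹ᵁ U
  stable : ∀ σ, U ≤ (L σ).φ ⁻¹ᵁ U

namespace Chart

variable {L : ∀ σ : R' ≃ₐ[R] R', E.Lift σ}

instance : PartialOrder (Chart L) :=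
  PartialOrder.lift (fun c : Chart L => (c.U, c.V)) (fun c c' h => by
    have h' : (c.U, c.V) = (c'.U, c'.V) := h
    rw [Prod.mk.injEq] at h'
    exact Chart.ext h'.1 h'.2)

theorem le_def (c c' : Chart L) : c ≤ c' ↔ c.U ≤ c'.U ∧ c.V ≤ c'.V := Iff.rfl

variable (c c' c'' : Chart L)

/-- restriction to the generic fibre from `U` -/
noncomputable def fU : Γ(E.X, c.U) ⟶ Γ(E.P, E.p ⁻¹ᵁ c.V) := E.j.appLE c.U _ c.hUV.le

/-- pullback from `V` -/
noncomputable def fV : Γ(E.A, c.V) ⟶ Γ(E.P, E.p ⁻¹ᵁ c.V) := E.p.appLE c.V _ le_rfl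

/-- The ring of the chart. -/
noncomputable def subr : Subring (Γ(E.X, c.U) × Γ(E.A, c.V)) :=
  RingHom.eqLocus (c.fU.hom.comp (RingHom.fst _ _)) (c.fV.hom.comp (RingHom.snd _ _))

/-- The ring of the chart. -/
noncomputable def ring : CommRingCat.{u} := CommRingCat.of c.subr

/-- first projection -/
noncomputable def toU : c.ring ⟶ Γ(E.X, c.U) :=
  CommRingCat.ofHom ((RingHom.fst _ _).comp c.subr.subtype)

/-- second projection -/
noncomputable def toV : c.ring ⟶ Γ(E.A, c.V) :=
  CommRingCat.ofHom ((RingHom.snd _ _).comp c.subr.subtype)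

theorem toU_fU : c.toU ≫ c.fU = c.toV ≫ c.fV := by
  ext z
  exact z.2

variable {c} in
/-- Extensionality for maps to the ring of the chart. -/
theorem ring_hom_ext {T : CommRingCat.{u}} {f g : T ⟶ c.ring} (h1 : f ≫ c.toU = g ≫ c.toU)
    (h2 : f ≫ c.toV = g ≫ c.toV) : f = g := by
  ext t
  apply Subtype.ext
  exact Prod.ext (ConcreteCategory.congr_hom h1 t) (ConcreteCategory.congr_hom h2 t)

/-- Maps to the ring of the chart. -/
noncomputable def lift {T : CommRingCat.{u}} (f : T ⟶ Γ(E.X, c.U)) (g : T ⟶ Γ(E.A, c.V))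
    (h : f ≫ c.fU = g ≫ c.fV) : T ⟶ c.ring :=
  CommRingCat.ofHom ((f.hom.prod g.hom).codRestrict c.subr (fun t => ConcreteCategory.congr_hom h t))

theorem lift_toU {T : CommRingCat.{u}} (f : T ⟶ Γ(E.X, c.U)) (g : T ⟶ Γ(E.A, c.V))
    (h : f ≫ c.fU = g ≫ c.fV) : c.lift f g h ≫ c.toU = f := rfl

theorem lift_toV {T : CommRingCat.{u}} (f : T ⟶ Γ(E.X, c.U)) (g : T ⟶ Γ(E.A, c.V))
    (h : f ≫ c.fU = g ≫ c.fV) : c.lift f g h ≫ c.toV = g := rfl

variable {c c' c''}

/-- restriction -/
noncomputable def res (h : c ≤ c') : c'.ring ⟶ c.ring :=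
  c.lift (c'.toU ≫ E.X.presheaf.map (homOfLE h.1).op) (c'.toV ≫ E.A.presheaf.map (homOfLE h.2).op) (by
    rw [Category.assoc, Category.assoc, fU, fV, Scheme.Hom.map_appLE, Scheme.Hom.map_appLE]
    have h1 : E.p ⁻¹ᵁ c.V ≤ E.p ⁻¹ᵁ c'.V := E.p.preimage_mono h.2
    have h2 := congr($(c'.toU_fU) ≫ E.P.presheaf.map (homOfLE h1).op)
    rw [Category.assoc, Category.assoc, fU, fV, Scheme.Hom.appLE_map, Scheme.Hom.appLE_map] at h2
    exact h2)

theorem res_toU (h : c ≤ c') : res h ≫ c.toU = c'.toU ≫ E.X.presheaf.map (homOfLE h.1).op := rfl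

theorem res_toV (h : c ≤ c') : res h ≫ c.toV = c'.toV ≫ E.A.presheaf.map (homOfLE h.2).op := rfl

theorem res_self : res (le_refl c) = 𝟙 _ := by
  apply ring_hom_ext
  · rw [res_toU, Category.id_comp]
    exact (congrArg (c.toU ≫ ·) (E.X.presheaf.map_id _)).trans (Category.comp_id _)
  · rw [res_toV, Category.id_comp]
    exact (congrArg (c.toV ≫ ·) (E.A.presheaf.map_id _)).trans (Category.comp_id _)

theorem res_comp (h : c ≤ c') (h' : c' ≤ c'') : res h' ≫ res h = res (h.trans h') := by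
  apply ring_hom_ext
  · rw [res_toU, Category.assoc, res_toU, ← Category.assoc, res_toU, Category.assoc,
      ← Functor.map_comp]
    rfl
  · rw [res_toV, Category.assoc, res_toV, ← Category.assoc, res_toV, Category.assoc,
      ← Functor.map_comp]
    rfl

variable (L) in
/-- The diagram of the spectra of the rings of the charts. -/
noncomputable def diag : Chart L ⥤ Scheme.{u} where
  obj c := Spec c.ring
  map f := Spec.map (res f.le)
  map_id c := by
    rw [← Spec.map_id]
    congr 1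
    exact res_self
  map_comp f g := by
    rw [← Spec.map_comp, res_comp]

end Chart

end Data

end Groth.Agent.Sga7.H331
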