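import Groth.Agent.Sga7.H331.ChartRing
import Mathlib.Algebra.Category.Ring.Constructions
import Mathlib.RingTheory.RingHom.Smooth

/-!
# The ring of a chart, in the category of rings
-/

set_option autoImplicit false

universe u

open CategoryTheory CategoryTheory.Limits

namespace Groth.Agent.Sga7.H331.ChartCat

variable {R R' K K' : Type u} [CommRing R] [IsDomain R] [IsDiscreteValuationRing R]
  [CommRing R'] [IsDomain R'] [IsDiscreteValuationRing R'] [Algebra R R']
  [Field K] [Algebra R K] [IsFractionRing R K] [Field K'] [Algebra R' K'] [IsFractionRing R' K']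
  [Algebra K K'] [Algebra R K'] [IsScalarTower R K K'] [IsScalarTower R R' K']

variable {B D D' : CommRingCat.{u}} (β : CommRingCat.of R' ⟶ B) (δ : CommRingCat.of K ⟶ D)
  (δ' : CommRingCat.of K' ⟶ D') (f : B ⟶ D') (g : D ⟶ D')

/-- The fibre product. -/
def subr : Subring (B × D) :=
  RingHom.eqLocus (f.hom.comp (RingHom.fst _ _)) (g.hom.comp (RingHom.snd _ _))

theorem isPushout_fst (hunif : ∀ ϖ : R, Irreducible ϖ → Irreducible (algebraMap R R' ϖ))
    (hfix : LD.FixedRes R R') (hR' : EtCoh.IsStrictlyHenselianLocalRing R') [IsDomain B]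
    (hβ : β.hom.Smooth)
    (hBD : IsPushout β (CommRingCat.ofHom (algebraMap R' K')) f δ')
    (hDD : IsPushout δ (CommRingCat.ofHom (algebraMap K K')) g δ')
    (s : (R' ≃ₐ[R] R') → (D' ⟶ D'))
    (hs : ∀ σ, CommRingCat.ofHom (algebraMap R' K') ≫ δ' ≫ s σ =
      CommRingCat.ofHom (σ : R' →+* R') ≫ CommRingCat.ofHom (algebraMap R' K') ≫ δ')
    (hsD : ∀ σ, g ≫ s σ = g) (t : (R' ≃ₐ[R] R') → (B ⟶ B)) (hsB : ∀ σ, f ≫ s σ = t σ ≫ f)
    (ρ : CommRingCat.of R ⟶ CommRingCat.of (subr f g))
    (h1 : ρ ≫ CommRingCat.ofHom ((RingHom.fst _ _).comp (subr f g).subtype) =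
      CommRingCat.ofHom (algebraMap R R') ≫ β)
    (h2 : ρ ≫ CommRingCat.ofHom ((RingHom.snd _ _).comp (subr f g).subtype) =
      CommRingCat.ofHom (algebraMap R K) ≫ δ) :
    IsPushout ρ (CommRingCat.ofHom (algebraMap R R'))
      (CommRingCat.ofHom ((RingHom.fst _ _).comp (subr f g).subtype)) β := by
  let i1 : Algebra R' B := β.hom.toAlgebra
  let i2 : Algebra K D := δ.hom.toAlgebra
  let i3 : Algebra K' D' := δ'.hom.toAlgebra
  let i4 : Algebra R B := (β.hom.comp (algebraMap R R')).toAlgebra
  let i5 : Algebra R D := (δ.hom.comp (algebraMap R K)).toAlgebra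
  let i6 : Algebra R' D' := (δ'.hom.comp (algebraMap R' K')).toAlgebra
  let i7 : Algebra K D' := (δ'.hom.comp (algebraMap K K')).toAlgebra
  let i8 : Algebra R D' := (δ'.hom.comp (algebraMap R K')).toAlgebra
  let i9 : Algebra B D' := f.hom.toAlgebra
  let i10 : Algebra D D' := g.hom.toAlgebra
  have t1 : IsScalarTower R R' B := .of_algebraMap_eq' rfl
  have t2 : IsScalarTower R K D := .of_algebraMap_eq' rfl
  have t3 : IsScalarTower R R' D' := .of_algebraMap_eq fun r => by
    change δ'.hom (algebraMap R K' r) = δ'.hom (algebraMap R' K' (algebraMap R R' r))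
    rw [← IsScalarTower.algebraMap_apply]
  have t4 : IsScalarTower R K D' := .of_algebraMap_eq fun r => by
    change δ'.hom (algebraMap R K' r) = δ'.hom (algebraMap K K' (algebraMap R K r))
    rw [← IsScalarTower.algebraMap_apply]
  have t5 : IsScalarTower R' K' D' := .of_algebraMap_eq' rfl
  have t6 : IsScalarTower K K' D' := .of_algebraMap_eq' rfl
  have t7 : IsScalarTower R' B D' := .of_algebraMap_eq fun r =>
    (ConcreteCategory.congr_hom hBD.w r).symm
  have t8 : IsScalarTower K D D' := .of_algebraMap_eq fun r =>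
    (ConcreteCategory.congr_hom hDD.w r).symm
  have t9 : IsScalarTower R B D' := .of_algebraMap_eq fun r => by
    rw [IsScalarTower.algebraMap_apply R R' B, ← IsScalarTower.algebraMap_apply R' B D',
      ← IsScalarTower.algebraMap_apply R R' D']
  have t10 : IsScalarTower R D D' := .of_algebraMap_eq fun r => by
    rw [IsScalarTower.algebraMap_apply R K D, ← IsScalarTower.algebraMap_apply K D D',
      ← IsScalarTower.algebraMap_apply R K D']
  have hsm : Algebra.Smooth R' B := hβ
  have e1 : Algebra.IsPushout R' B K' D' := CommRingCat.isPushout_iff_isPushout.mp hBD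
  have e2 : Algebra.IsPushout K D K' D' := CommRingCat.isPushout_iff_isPushout.mp hDD
  have key := ChartRing.isBaseChange_fst (R := R) (R' := R') K K' (B := B) (D := D) (D' := D') hunif hfix
    hR' e1 e2 (fun σ => (s σ).hom)
    (fun σ b => ConcreteCategory.congr_hom (hs σ) b)
    (fun σ d => ConcreteCategory.congr_hom (hsD σ) d)
    (fun σ b => ⟨(t σ).hom b, ConcreteCategory.congr_hom (hsB σ) b⟩)
  have hρ : ρ = CommRingCat.ofHom (algebraMap R (ChartRing.C B D D')) := by
    ext r
    · exact ConcreteCategory.congr_hom h1 r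
    · exact ConcreteCategory.congr_hom h2 r
  rw [hρ]
  let i11 : Algebra (ChartRing.C B D D') B :=
    ((RingHom.fst _ _).comp (ChartRing.C B D D').subtype).toAlgebra
  have t11 : IsScalarTower R (ChartRing.C B D D') B := .of_algebraMap_eq' rfl
  have key' : Algebra.IsPushout R R' (ChartRing.C B D D') B := ⟨key⟩
  exact CommRingCat.isPushout_iff_isPushout.mpr key'.symm

theorem isPushout_snd (hunif : ∀ ϖ : R, Irreducible ϖ → Irreducible (algebraMap R R' ϖ))
    [IsDomain B] (hβ : β.hom.Flat)
    (hBD : IsPushout β (CommRingCat.ofHom (algebraMap R' K')) f δ')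
    (hDD : IsPushout δ (CommRingCat.ofHom (algebraMap K K')) g δ')
    (ρ : CommRingCat.of R ⟶ CommRingCat.of (subr f g))
    (h1 : ρ ≫ CommRingCat.ofHom ((RingHom.fst _ _).comp (subr f g).subtype) =
      CommRingCat.ofHom (algebraMap R R') ≫ β)
    (h2 : ρ ≫ CommRingCat.ofHom ((RingHom.snd _ _).comp (subr f g).subtype) =
      CommRingCat.ofHom (algebraMap R K) ≫ δ) :
    IsPushout ρ (CommRingCat.ofHom (algebraMap R K))
      (CommRingCat.ofHom ((RingHom.snd _ _).comp (subr f g).subtype)) δ := by
  let i1 : Algebra R' B := β.hom.toAlgebra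
  let i2 : Algebra K D := δ.hom.toAlgebra
  let i3 : Algebra K' D' := δ'.hom.toAlgebra
  let i4 : Algebra R B := (β.hom.comp (algebraMap R R')).toAlgebra
  let i5 : Algebra R D := (δ.hom.comp (algebraMap R K)).toAlgebra
  let i6 : Algebra R' D' := (δ'.hom.comp (algebraMap R' K')).toAlgebra
  let i7 : Algebra K D' := (δ'.hom.comp (algebraMap K K')).toAlgebra
  let i8 : Algebra R D' := (δ'.hom.comp (algebraMap R K')).toAlgebra
  let i9 : Algebra B D' := f.hom.toAlgebra
  let i10 : Algebra D D' := g.hom.toAlgebra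
  have t1 : IsScalarTower R R' B := .of_algebraMap_eq' rfl
  have t2 : IsScalarTower R K D := .of_algebraMap_eq' rfl
  have t3 : IsScalarTower R R' D' := .of_algebraMap_eq fun r => by
    change δ'.hom (algebraMap R K' r) = δ'.hom (algebraMap R' K' (algebraMap R R' r))
    rw [← IsScalarTower.algebraMap_apply]
  have t4 : IsScalarTower R K D' := .of_algebraMap_eq fun r => by
    change δ'.hom (algebraMap R K' r) = δ'.hom (algebraMap K K' (algebraMap R K r))
    rw [← IsScalarTower.algebraMap_apply]
  have t5 : IsScalarTower R' K' D' := .of_algebraMap_eq' rfl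
  have t6 : IsScalarTower K K' D' := .of_algebraMap_eq' rfl
  have t7 : IsScalarTower R' B D' := .of_algebraMap_eq fun r =>
    (ConcreteCategory.congr_hom hBD.w r).symm
  have t8 : IsScalarTower K D D' := .of_algebraMap_eq fun r =>
    (ConcreteCategory.congr_hom hDD.w r).symm
  have t9 : IsScalarTower R B D' := .of_algebraMap_eq fun r => by
    rw [IsScalarTower.algebraMap_apply R R' B, ← IsScalarTower.algebraMap_apply R' B D',
      ← IsScalarTower.algebraMap_apply R R' D']
  have t10 : IsScalarTower R D D' := .of_algebraMap_eq fun r => by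
    rw [IsScalarTower.algebraMap_apply R K D, ← IsScalarTower.algebraMap_apply K D D',
      ← IsScalarTower.algebraMap_apply R K D']
  have hfl : Module.Flat R' B := hβ
  have e1 : Algebra.IsPushout R' B K' D' := CommRingCat.isPushout_iff_isPushout.mp hBD
  have key := ChartRing.isBaseChange_snd (R := R) (R' := R') (K := K) (K' := K') (B := B) (D := D)
    (D' := D') hunif e1
  have hρ : ρ = CommRingCat.ofHom (algebraMap R (ChartRing.C B D D')) := by
    ext r
    · exact ConcreteCategory.congr_hom h1 r
    · exact ConcreteCategory.congr_hom h2 r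
  rw [hρ]
  let i11 : Algebra (ChartRing.C B D D') D :=
    ((RingHom.snd _ _).comp (ChartRing.C B D D').subtype).toAlgebra
  have t11 : IsScalarTower R (ChartRing.C B D D') D := .of_algebraMap_eq' rfl
  have key' : Algebra.IsPushout R K (ChartRing.C B D D') D := ⟨key⟩
  exact CommRingCat.isPushout_iff_isPushout.mpr key'.symm

end Groth.Agent.Sga7.H331.ChartCat
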