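import Groth.Agent.Sga7.H331.NvMore

/-!
# Extension of sections from the generic fibre
-/

set_option autoImplicit false

universe u

open CategoryTheory CategoryTheory.Limits AlgebraicGeometry TopologicalSpace
open Groth.Agent.Fdesc.LocGen Groth.Agent.Ega2.Nv Groth.Agent.Ega2.Ample Groth.Agent.Fga.GenIso
open Groth.Agent.Sga7.H260.Div Groth.Agent.Sga7.H331.NvMore

namespace Groth.Agent.Sga7.H331.CovGeom

variable {X P : Scheme.{u}} {π : Γ(X, ⊤)} {j : P ⟶ X} {M : X.Modules} {N : P.Modules}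

/-- `cj` is bijective on opens inside the range. -/
def IsBij (cj : PB j M N) [IsOpenImmersion j] : Prop :=
  ∀ {U : X.Opens} {V : P.Opens} (h : V ≤ j ⁻¹ᵁ U), U ≤ j ''ᵁ V → Function.Bijective (cj.c h)

variable [IsOpenImmersion j] (hj : j.opensRange = X.basicOpen π)
  (hD : ∀ (U : X.Opens) (a b : Γ(X, U)), ores (tr_le π U) a = ores (tr_le π U) b → a = b)
  (hM : PicF.IsInvertible M) {cj : PB j M N} (hcj : IsBij cj)

include hj in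
theorem tr_le_image (U : X.Opens) : tr π U ≤ j ''ᵁ (j ⁻¹ᵁ U) := by
  rw [j.image_preimage_eq_opensRange_inf, hj, tr_eq]

include hj hD hM hcj in
theorem c_injective {U : X.Opens} {V : P.Opens} (h : V ≤ j ⁻¹ᵁ U) (h' : j ⁻¹ᵁ U ≤ V) (m m' : Γ(M, U))
    (e : cj.c h m = cj.c h m') : m = m' := by
  obtain rfl := le_antisymm h h'
  apply res_tr_injective hD hM U
  have h1 : j ⁻¹ᵁ U ≤ j ⁻¹ᵁ (tr π U) := by
    intro y hy
    change j y ∈ tr π U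
    rw [tr_eq, ← hj]
    exact ⟨⟨y, rfl⟩, hy⟩
  apply (hcj h1 (tr_le_image hj U)).1
  rw [cj.c_res, cj.c_res]
  exact e

theorem isUnit_appLE (hj : j.opensRange ≤ X.basicOpen π) (V : P.Opens) :
    IsUnit (ores (le_top : V ≤ ⊤) (j.appTop π) : Γ(P, V)) := by
  apply isUnit_res
  intro y _
  have h1 : j y ∈ X.basicOpen π := hj ⟨y, rfl⟩
  have h2 : P.basicOpen (j.appTop π) = j ⁻¹ᵁ (X.basicOpen π) := (Scheme.preimage_basicOpen_top j π).symm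
  rw [h2]
  exact h1

theorem isUnit_appTop (hj : j.opensRange ≤ X.basicOpen π) : IsUnit (j.appTop π : Γ(P, ⊤)) := by
  have h := isUnit_appLE hj (⊤ : P.Opens)
  rwa [ores_refl] at h

theorem appLE_top_top {Y Z : Scheme.{u}} (f : Y ⟶ Z) (a : Γ(Z, ⊤)) :
    f.appLE ⊤ ⊤ le_top a = f.appTop a := by
  rw [Scheme.Hom.appLE]
  exact congr($((congrArg (f.app ⊤ ≫ ·) (Y.presheaf.map_id _)).trans (Category.comp_id _)) a)

omit [IsOpenImmersion j] in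
theorem c_smul_top (c : PB j M N) (a : Γ(X, ⊤)) (m : Γ(M, ⊤)) :
    c.c (le_top : (⊤ : P.Opens) ≤ j ⁻¹ᵁ ⊤) (a • m) =
      (j.appTop a : Γ(P, ⊤)) • c.c (le_top : (⊤ : P.Opens) ≤ j ⁻¹ᵁ ⊤) m := by
  rw [c.smul, appLE_top_top]

include hj hD hM hcj in
/-- Sections over the generic fibre extend after multiplication by a power of the uniformizer. -/
theorem exists_ext [CompactSpace X] (t : Γ(N, ⊤)) : ∃ (k : ℕ) (s : Γ(M, ⊤)),
    cj.c (le_top : (⊤ : P.Opens) ≤ j ⁻¹ᵁ ⊤) s = (j.appTop π : Γ(P, ⊤)) ^ k • t := by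
  have hle : (⊤ : P.Opens) ≤ j ⁻¹ᵁ (X.basicOpen π) := by
    intro y _
    change j y ∈ X.basicOpen π
    rw [← hj]
    exact ⟨y, rfl⟩
  obtain ⟨σ, hσ⟩ := (hcj hle (by rw [← hj, Scheme.Hom.image_top_eq_opensRange])).2 t
  have hloc := locGen_top_iff.2 hM
  obtain ⟨ι, _, W, hWa, hWU, hcov, e, g, he, hg⟩ := exists_frame hloc
    (isCompact_univ : IsCompact (Set.univ : Set X))
  have hb : ∀ i, X.basicOpen (ores (hWU i) π) ≤ X.basicOpen π := fun i => by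
    rw [Ega2.ExtCoeff.basicOpen_res]; exact inf_le_right
  have h1 : ∀ i, ∃ (k : ℕ) (m : Γ(M, W i)), res M (X.basicOpen_le _) m =
      ores (le_top : X.basicOpen (ores (hWU i) π) ≤ ⊤) π ^ k • res M (hb i) σ := by
    intro i
    obtain ⟨b, hb'⟩ := ((he i).res (X.basicOpen_le (ores (hWU i) π))).exists_eq (res M (hb i) σ)
    obtain ⟨k, a, ha⟩ := exists_eq_pow_mul_of_isAffineOpen X (W i) (hWa i) (ores (hWU i) π) b
    refine ⟨k, a • e i, ?_⟩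
    rw [res_smul, hb', smul_smul]
    congr 1
    have h2 : ores (X.basicOpen_le (ores (hWU i) π)) a =
      ores (X.basicOpen_le (ores (hWU i) π)) (ores (hWU i) π) ^ k * b := ha
    rw [h2, ores_ores]
  choose k m hm using h1
  have _ := Fintype.ofFinite ι
  let K := Finset.univ.sup k
  have hK : ∀ i, k i ≤ K := fun i => Finset.le_sup (Finset.mem_univ i)
  obtain ⟨m', hm'⟩ : ∃ m' : ∀ i, Γ(M, W i), ∀ i, res M (X.basicOpen_le _) (m' i) =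
      ores (le_top : X.basicOpen (ores (hWU i) π) ≤ ⊤) π ^ K • res M (hb i) σ := by
    refine ⟨fun i => ores (le_top : W i ≤ ⊤) π ^ (K - k i) • m i, fun i => ?_⟩
    rw [res_smul, hm, smul_smul, map_pow, ores_ores, ← pow_add, Nat.sub_add_cancel (hK i)]
  obtain ⟨s, hs⟩ := res_glue M (V := ⊤) W hWU hcov m' (by
    intro i i'
    apply res_tr_injective hD hM
    rw [res_res, res_res]
    have h3 : tr π (W i ⊓ W i') ≤ X.basicOpen (ores (hWU i) π) := by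
      rw [tr_eq, Ega2.ExtCoeff.basicOpen_res]
      exact le_inf (inf_le_right.trans inf_le_left) inf_le_left
    have h4 : tr π (W i ⊓ W i') ≤ X.basicOpen (ores (hWU i') π) := by
      rw [tr_eq, Ega2.ExtCoeff.basicOpen_res]
      exact le_inf (inf_le_right.trans inf_le_right) inf_le_left
    have h5 := congr(res M h3 $(hm' i))
    have h6 := congr(res M h4 $(hm' i'))
    rw [res_res, res_smul, res_res, map_pow, ores_ores] at h5 h6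
    rw [h5, h6])
  refine ⟨K, s, ?_⟩
  have h7 : res M (le_top : X.basicOpen π ≤ ⊤) s = ores (le_top : X.basicOpen π ≤ ⊤) π ^ K • σ := by
    refine res_ext M (fun i => X.basicOpen (ores (hWU i) π)) hb ?_ fun i => ?_
    · intro y hy
      obtain ⟨i, hi⟩ := Opens.mem_iSup.mp (hcov (show y ∈ (⊤ : X.Opens) from trivial))
      refine Opens.mem_iSup.mpr ⟨i, ?_⟩
      rw [Ega2.ExtCoeff.basicOpen_res]
      exact ⟨hi, hy⟩
    · rw [res_res, res_smul, map_pow, ores_ores, ← hm', ← hs, res_res]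
  have h8 := congr(cj.c hle $h7)
  rw [cj.c_res, cj.smul, hσ] at h8
  rw [h8, map_pow]
  congr 2
  change j.appLE _ _ hle (X.presheaf.map (homOfLE _).op π) = _
  rw [← CommRingCat.comp_apply, Scheme.Hom.map_appLE, appLE_top_top]

variable (hp : ∀ y : X, y ∉ X.basicOpen π → (Ideal.span {gp π y}).IsPrime)
  (hirr : IsPreirreducible ((X.basicOpen π : Set X)ᶜ))

omit [IsOpenImmersion j] in
include hirr in
/-- Two opens meeting the complement of `D(π)` have a common point there. -/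
theorem exists_common {U V : X.Opens} (hU : ∃ z ∈ U, z ∉ X.basicOpen π) (hV : ∃ z ∈ V, z ∉ X.basicOpen π) :
    ∃ z ∈ U ⊓ V, z ∉ X.basicOpen π := by
  obtain ⟨z, hz, hz'⟩ := hU
  obtain ⟨w, hw, hw'⟩ := hV
  obtain ⟨v, hv, hvU, hvV⟩ := hirr (U : Set X) (V : Set X) U.2 V.2 ⟨z, hz', hz⟩ ⟨w, hw', hw⟩
  exact ⟨v, ⟨hvU, hvV⟩, hv⟩

include hj hD hM hcj hp hirr in
/-- Sections over the generic fibre which extend near a point of the special fibre extend. -/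
theorem exists_ext_of_local [CompactSpace X] (t : Γ(N, ⊤)) (N₁ : X.Opens)
    (hz : ∃ z ∈ N₁, z ∉ X.basicOpen π) (σ₁ : Γ(M, N₁))
    (hσ₁ : cj.c (le_refl (j ⁻¹ᵁ N₁)) σ₁ = res N (le_top : j ⁻¹ᵁ N₁ ≤ ⊤) t) :
    ∃ s : Γ(M, ⊤), cj.c (le_top : (⊤ : P.Opens) ≤ j ⁻¹ᵁ ⊤) s = t := by
  obtain ⟨k, s, hs⟩ := exists_ext hj hD hM hcj t
  induction k generalizing s with
  | zero => exact ⟨s, by rw [hs, pow_zero, one_smul]⟩
  | succ k ih =>
    have hloc := locGen_top_iff.2 hM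
    have h1 : res M (le_top : N₁ ≤ ⊤) s = ores (le_top : N₁ ≤ ⊤) π ^ (k + 1) • σ₁ := by
      apply c_injective hj hD hM hcj (le_refl (j ⁻¹ᵁ N₁)) le_rfl
      rw [cj.c_res, cj.smul, hσ₁]
      have h2 := congr(res N (le_top : j ⁻¹ᵁ N₁ ≤ ⊤) $hs)
      rw [cj.res_c, res_smul] at h2
      rw [h2, map_pow, map_pow]
      congr 2
      change P.presheaf.map (homOfLE _).op (j.app ⊤ π) = j.appLE _ _ _ (X.presheaf.map (homOfLE _).op π)
      rw [← CommRingCat.comp_apply, ← CommRingCat.comp_apply, Scheme.Hom.map_appLE]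
      rfl
    have h3 : nv M s ≤ X.basicOpen π := by
      intro w hw
      by_contra hwπ
      obtain ⟨z, ⟨hzN, hzs⟩, hz'⟩ := exists_common hirr hz ⟨w, hw, hwπ⟩
      have h4 := nv_res M s (le_top : N₁ ≤ ⊤)
      rw [h1, NvMore.nv_smul_inf (hloc.mono le_top)] at h4
      have h5 : z ∈ N₁ ⊓ nv M s := ⟨hzN, hzs⟩
      rw [← h4, Scheme.basicOpen_pow _ _ (Nat.succ_pos k), Ega2.ExtCoeff.basicOpen_res] at h5
      exact hz' h5.2.2
    obtain ⟨s', hs'⟩ := exists_smul_of_nv_le hD hM hp s h3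
    refine ih s' ?_
    apply (isUnit_appTop (j := j) hj.le).smul_left_cancel.mp
    rw [← c_smul_top, ← hs', hs, pow_succ', mul_smul]

include hj hD hM hcj hp in
/-- Normalization of a section of the generic fibre. -/
theorem exists_normalized [IsIntegral X] [IsLocallyNoetherian X] [CompactSpace X] (t : Γ(N, ⊤))
    (ht : ∃ w, w ∈ nv N t) (hne : ∃ z, z ∉ X.basicOpen π) :
    ∃ (a b : ℕ) (s : Γ(M, ⊤)), (j.appTop π : Γ(P, ⊤)) ^ a •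
      cj.c (le_top : (⊤ : P.Opens) ≤ j ⁻¹ᵁ ⊤) s = (j.appTop π : Γ(P, ⊤)) ^ b • t ∧
      ∃ z ∈ nv M s, z ∉ X.basicOpen π := by
  obtain ⟨k, s, hs⟩ := exists_ext hj hD hM hcj t
  have hloc := locGen_top_iff.2 hM
  have hlocN : LocGen N ⊤ := by
    intro y _
    obtain ⟨W, e, hyW, -, he⟩ := hloc (j y) trivial
    exact ⟨j ⁻¹ᵁ W, cj.c le_rfl e, hyW, le_top, cj.gen _ _ he⟩
  obtain ⟨w, hw⟩ := ht
  have hws : j w ∈ nv M s := by
    have h1 := cj.nv_c (le_top : (⊤ : P.Opens) ≤ j ⁻¹ᵁ ⊤) hloc s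
    rw [hs, NvMore.nv_smul_inf hlocN] at h1
    have h2 : w ∈ nv N t ⊓ P.basicOpen ((j.appTop π : Γ(P, ⊤)) ^ k) := by
      refine ⟨hw, ?_⟩
      have h3 : P.basicOpen ((j.appTop π : Γ(P, ⊤)) ^ k) = ⊤ :=
        P.basicOpen_of_isUnit ((isUnit_appTop (j := j) hj.le).pow k)
      rw [h3]
      trivial
    rw [h1] at h2
    exact h2.2
  obtain ⟨z, hz⟩ := hne
  obtain ⟨n, s', hs', hn⟩ := exists_div hD hM hp s hz (by
    intro W hzW h0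
    obtain ⟨w', hwW, hwS⟩ := nonempty_preirreducible_inter W.2 (nv M s).2 ⟨z, hzW⟩ ⟨j w, hws⟩
    have h1 : IsGen (res M (inf_le_left : W ⊓ nv M s ≤ W) (res M (le_top : W ≤ ⊤) s)) := by
      rw [res_res, ← le_nv_iff _ s le_top]
      exact inf_le_right
    rw [h0, map_zero] at h1
    have h2 : (1 : Γ(X, W ⊓ nv M s)) = 0 := h1.ext (by rw [smul_zero, smul_zero])
    have : Nonempty (W ⊓ nv M s : X.Opens) := ⟨⟨w', hwW, hwS⟩⟩
    have : Nontrivial Γ(X, W ⊓ nv M s) := inferInstance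
    exact one_ne_zero h2)
  refine ⟨n, k, s', ?_, ?_⟩
  · rw [← hs, hs', c_smul_top, map_pow]
  · by_contra hcon
    push Not at hcon
    exact hn fun v hv => hcon v hv

section action

variable {φ : X ⟶ X} {ψ : P ⟶ P} (hψ : j ≫ φ = ψ ≫ j) (hφπ : φ.appTop π = π)

omit [IsOpenImmersion j] in
include hφπ in
theorem preimage_basicOpen_eq : φ ⁻¹ᵁ (X.basicOpen π) = X.basicOpen π := by
  rw [Scheme.preimage_basicOpen_top, hφπ]

include hj hD hp hirr hψ in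
/-- Stability of a locally principal open. -/
theorem le_preimage {U : X.Opens} (hU : LocPrincipal U) (h : j ⁻¹ᵁ U ≤ ψ ⁻¹ᵁ (j ⁻¹ᵁ U))
    (hz : ∃ z ∈ φ ⁻¹ᵁ U, z ∉ X.basicOpen π) : U ≤ φ ⁻¹ᵁ U := by
  refine le_of_locPrincipal hD hp hirr (φ ⁻¹ᵁ U) U (fun y _ => hU.preimage φ y) hz ?_
  rintro y ⟨hyU, hyπ⟩
  rw [← hj] at hyπ
  obtain ⟨w, rfl⟩ := hyπ
  change φ (j w) ∈ U
  rw [← Scheme.Hom.comp_apply, hψ, Scheme.Hom.comp_apply]
  exact h hyU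

include hj hD hM hcj hp hirr hψ in
/-- The action on sections over the generic fibre preserves extendability. -/
theorem exists_act [CompactSpace X] (cψ : PB ψ N N) (s₀ : Γ(M, ⊤))
    (hz₀ : ∃ z ∈ nv M s₀ ⊓ φ ⁻¹ᵁ (nv M s₀), z ∉ X.basicOpen π)
    (hs₀ : cψ.c (le_top : (⊤ : P.Opens) ≤ ψ ⁻¹ᵁ ⊤) (cj.c (le_top : (⊤ : P.Opens) ≤ j ⁻¹ᵁ ⊤) s₀) =
      cj.c (le_top : (⊤ : P.Opens) ≤ j ⁻¹ᵁ ⊤) s₀) (s : Γ(M, ⊤)) :
    ∃ s' : Γ(M, ⊤), cj.c (le_top : (⊤ : P.Opens) ≤ j ⁻¹ᵁ ⊤) s' =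
        cψ.c (le_top : (⊤ : P.Opens) ≤ ψ ⁻¹ᵁ ⊤) (cj.c (le_top : (⊤ : P.Opens) ≤ j ⁻¹ᵁ ⊤) s) ∧
      nv M s' = φ ⁻¹ᵁ (nv M s) := by
  have hloc := locGen_top_iff.2 hM
  have hlocN : LocGen N ⊤ := by
    intro y _
    obtain ⟨W, e, hyW, -, he⟩ := hloc (j y) trivial
    exact ⟨j ⁻¹ᵁ W, cj.c le_rfl e, hyW, le_top, cj.gen _ _ he⟩
  obtain ⟨g, hg⟩ := (isGen_nv M s₀).exists_eq (res M (nv_le M s₀) s)
  have hN₁ : nv M s₀ ⊓ φ ⁻¹ᵁ (nv M s₀) ≤ φ ⁻¹ᵁ (nv M s₀) := inf_le_right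
  set N₁ := nv M s₀ ⊓ φ ⁻¹ᵁ (nv M s₀) with hN₁def
  let g' : Γ(X, N₁) := φ.appLE (nv M s₀) N₁ hN₁ g
  let σ₁ : Γ(M, N₁) := g' • res M (le_top : N₁ ≤ ⊤) s₀
  have e1 : j ⁻¹ᵁ N₁ ≤ ψ ⁻¹ᵁ (j ⁻¹ᵁ (nv M s₀)) := by
    intro w hw
    change j (ψ w) ∈ nv M s₀
    rw [← Scheme.Hom.comp_apply, ← hψ, Scheme.Hom.comp_apply]
    exact hw.2
  have hσ₁ : cj.c (le_refl (j ⁻¹ᵁ N₁)) σ₁ = res N (le_top : j ⁻¹ᵁ N₁ ≤ ⊤)
      (cψ.c (le_top : (⊤ : P.Opens) ≤ ψ ⁻¹ᵁ ⊤) (cj.c (le_top : (⊤ : P.Opens) ≤ j ⁻¹ᵁ ⊤) s)) := by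
    have e2 : res N (le_top : j ⁻¹ᵁ N₁ ≤ ⊤)
        (cψ.c (le_top : (⊤ : P.Opens) ≤ ψ ⁻¹ᵁ ⊤) (cj.c (le_top : (⊤ : P.Opens) ≤ j ⁻¹ᵁ ⊤) s)) =
        cψ.c e1 (cj.c (le_refl (j ⁻¹ᵁ (nv M s₀))) (res M (nv_le M s₀) s)) := by
      rw [cψ.res_c, cj.c_res, ← cj.res_c (le_top : (⊤ : P.Opens) ≤ j ⁻¹ᵁ ⊤)
        (le_top : j ⁻¹ᵁ (nv M s₀) ≤ ⊤), cψ.c_res]
    have e3 : cψ.c e1 (cj.c (le_refl (j ⁻¹ᵁ (nv M s₀))) (res M (nv_le M s₀) s₀)) =
        cj.c (le_refl (j ⁻¹ᵁ N₁)) (res M (le_top : N₁ ≤ ⊤) s₀) := by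
      rw [cj.c_res, cj.c_res, ← cj.res_c (le_top : (⊤ : P.Opens) ≤ j ⁻¹ᵁ ⊤)
        (le_top : j ⁻¹ᵁ (nv M s₀) ≤ ⊤), cψ.c_res, ← cψ.res_c (le_top : (⊤ : P.Opens) ≤ ψ ⁻¹ᵁ ⊤)
        (le_top : j ⁻¹ᵁ N₁ ≤ ⊤), hs₀, cj.res_c]
    rw [e2, hg, cj.smul, cj.smul, cψ.smul, e3]
    congr 1
    change j.appLE _ _ _ (φ.appLE _ _ _ g) = ψ.appLE _ _ _ (j.appLE _ _ _ g)
    rw [← CommRingCat.comp_apply, ← CommRingCat.comp_apply, Scheme.Hom.appLE_comp_appLE,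
      Scheme.Hom.appLE_comp_appLE]
    simp only [hψ]
  obtain ⟨s', hs'⟩ := exists_ext_of_local hj hD hM hcj hp hirr _ N₁ hz₀ σ₁ hσ₁
  refine ⟨s', hs', ?_⟩
  -- on the generic fibre
  have h1 : nv M s' ⊓ X.basicOpen π = φ ⁻¹ᵁ (nv M s) ⊓ X.basicOpen π := by
    have h2 := cj.nv_c (le_top : (⊤ : P.Opens) ≤ j ⁻¹ᵁ ⊤) hloc s'
    rw [hs', cψ.nv_c _ hlocN, cj.nv_c _ hloc] at h2
    ext y
    constructor
    · rintro ⟨hy, hyπ⟩
      refine ⟨?_, hyπ⟩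
      rw [SetLike.mem_coe, ← hj] at hyπ
      obtain ⟨w, rfl⟩ := hyπ
      have h3 : w ∈ (⊤ : P.Opens) ⊓ j ⁻¹ᵁ (nv M s') := ⟨trivial, hy⟩
      rw [← h2] at h3
      change φ (j w) ∈ nv M s
      rw [← Scheme.Hom.comp_apply, hψ, Scheme.Hom.comp_apply]
      exact h3.2.2
    · rintro ⟨hy, hyπ⟩
      refine ⟨?_, hyπ⟩
      rw [SetLike.mem_coe, ← hj] at hyπ
      obtain ⟨w, rfl⟩ := hyπ
      have h3 : w ∈ (⊤ : P.Opens) ⊓ ψ ⁻¹ᵁ ((⊤ : P.Opens) ⊓ j ⁻¹ᵁ (nv M s)) := by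
        refine ⟨trivial, trivial, ?_⟩
        change j (ψ w) ∈ nv M s
        rw [← Scheme.Hom.comp_apply, ← hψ, Scheme.Hom.comp_apply]
        exact hy
      rw [h2] at h3
      exact h3.2
  -- near the generic point of the special fibre
  have h4 : N₁ ⊓ nv M s' = N₁ ⊓ φ ⁻¹ᵁ (nv M s) := by
    have h5 : res M (le_top : N₁ ≤ ⊤) s' = σ₁ := by
      apply c_injective hj hD hM hcj (le_refl (j ⁻¹ᵁ N₁)) le_rfl
      rw [cj.c_res, hσ₁, ← hs', cj.res_c]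
    have hgen : IsGen (res M (le_top : N₁ ≤ ⊤) s₀) := by
      rw [← le_nv_iff]
      exact inf_le_left
    have h6 := nv_inf_of_eq_smul s' (le_top : N₁ ≤ ⊤) hgen g' h5
    have h7 := nv_inf_of_eq_smul s (nv_le M s₀) (isGen_nv M s₀) g hg
    rw [h6]
    change X.basicOpen (φ.appLE _ _ _ g) = _
    rw [Scheme.basicOpen_appLE, ← h7, Scheme.Hom.preimage_inf, ← inf_assoc, inf_eq_left.mpr hN₁]
  have h8 : (∃ z ∈ nv M s', z ∉ X.basicOpen π) ↔ (∃ z ∈ φ ⁻¹ᵁ (nv M s), z ∉ X.basicOpen π) := by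
    constructor
    · intro h
      obtain ⟨z, hz, hz'⟩ := exists_common hirr hz₀ h
      rw [h4] at hz
      exact ⟨z, hz.2, hz'⟩
    · intro h
      obtain ⟨z, hz, hz'⟩ := exists_common hirr hz₀ h
      rw [← h4] at hz
      exact ⟨z, hz.2, hz'⟩
  have hl1 : LocPrincipal (nv M s') := locPrincipal_nv hloc s'
  have hl2 : LocPrincipal (φ ⁻¹ᵁ (nv M s)) := (locPrincipal_nv hloc s).preimage φ
  by_cases hc : ∃ z ∈ nv M s', z ∉ X.basicOpen π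
  · apply le_antisymm
    · exact le_of_locPrincipal hD hp hirr _ _ (fun y _ => hl2 y) (h8.mp hc) (by
        rw [h1]
        exact inf_le_left)
    · exact le_of_locPrincipal hD hp hirr _ _ (fun y _ => hl1 y) hc (by
        rw [← h1]
        exact inf_le_left)
  · have hc' := mt h8.mpr hc
    push Not at hc hc'
    have h9 : nv M s' ≤ X.basicOpen π := hc
    have h10 : φ ⁻¹ᵁ (nv M s) ≤ X.basicOpen π := hc'
    rw [← inf_eq_left.mpr h9, h1, inf_eq_left.mpr h10]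

end action

end Groth.Agent.Sga7.H331.CovGeom
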