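import Groth.Agent.Sga7.H331.Glue
import Groth.Agent.Fga.DVRGeom

/-!
# Lifts of automorphisms
-/

set_option autoImplicit false
set_option linter.unusedSectionVars false

universe u

open CategoryTheory CategoryTheory.Limits AlgebraicGeometry

namespace Groth.Agent.Sga7.H331.Data

theorem appTop_scal {V V' : Type u} [CommRing V] [CommRing V'] {Y Z : Scheme.{u}} (f : Y ⟶ Z)
    (q : Z ⟶ Spec (CommRingCat.of V)) (q' : Y ⟶ Spec (CommRingCat.of V')) (α : V →+* V')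
    (h : f ≫ q = q' ≫ Spec.map (CommRingCat.ofHom α)) (r : V) :
    f.appTop (Fga.DVRGeom.scal q r) = Fga.DVRGeom.scal q' (α r) := by
  have h1 : f.appTop (q.appTop ((Scheme.ΓSpecIso (CommRingCat.of V)).inv r)) =
      (f ≫ q).appTop ((Scheme.ΓSpecIso (CommRingCat.of V)).inv r) := by
    rw [Scheme.Hom.comp_appTop]
    rfl
  rw [Fga.DVRGeom.scal, h1, h, Scheme.Hom.comp_appTop]
  change q'.appTop ((Spec.map (CommRingCat.ofHom α)).appTop
    ((Scheme.ΓSpecIso (CommRingCat.of V)).inv r)) = _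
  rw [← CommRingCat.comp_apply (Scheme.ΓSpecIso (CommRingCat.of V)).inv,
    ← Scheme.ΓSpecIso_inv_naturality]
  rfl

variable {R R' K K' : Type u} [CommRing R] [IsDomain R] [IsDiscreteValuationRing R]
  [CommRing R'] [IsDomain R'] [IsDiscreteValuationRing R'] [Algebra R R']
  [Field K] [Algebra R K] [IsFractionRing R K] [Field K'] [Algebra R' K'] [IsFractionRing R' K']
  [Algebra K K'] [Algebra R K'] [IsScalarTower R K K'] [IsScalarTower R R' K']
  {E : Data R' K K'}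

theorem Lift.scal {σ : R' ≃ₐ[R] R'} (l : E.Lift σ) (r : R') :
    l.φ.appTop (Fga.DVRGeom.scal E.x r) = Fga.DVRGeom.scal E.x (σ r) :=
  appTop_scal l.φ E.x E.x (σ : R' →+* R') l.hφ r

theorem j_scal (r : R') : E.j.appTop (Fga.DVRGeom.scal E.x r) =
    Fga.DVRGeom.scal E.b (algebraMap R' K' r) :=
  appTop_scal E.j E.x E.b (algebraMap R' K') E.hX.w r

theorem Lift.ψ_scal {σ : R' ≃ₐ[R] R'} (l : E.Lift σ) (r : R') :
    l.ψ.appTop (Fga.DVRGeom.scal E.b (algebraMap R' K' r)) =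
      Fga.DVRGeom.scal E.b (algebraMap R' K' (σ r)) := by
  rw [← j_scal, ← j_scal, ← l.scal, ← CommRingCat.comp_apply, ← CommRingCat.comp_apply,
    ← Scheme.Hom.comp_appTop, ← Scheme.Hom.comp_appTop, l.hψ]

theorem Lift.scal_algebraMap {σ : R' ≃ₐ[R] R'} (l : E.Lift σ) (r : R) :
    l.φ.appTop (Fga.DVRGeom.scal E.x (algebraMap R R' r)) = Fga.DVRGeom.scal E.x (algebraMap R R' r) := by
  rw [l.scal, σ.commutes]

theorem Lift.ψ_b {σ : R' ≃ₐ[R] R'} (l : E.Lift σ) :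
    l.ψ ≫ E.b ≫ Spec.map (CommRingCat.ofHom (algebraMap R' K')) =
      E.b ≫ Spec.map (CommRingCat.ofHom (algebraMap R' K')) ≫
        Spec.map (CommRingCat.ofHom (σ : R' →+* R')) := by
  rw [← E.hX.w, ← reassoc_of% E.hX.w, ← reassoc_of% l.hψ, l.hφ]

variable (L : ∀ σ : R' ≃ₐ[R] R', E.Lift σ)

theorem ψ_comp (σ : R' ≃ₐ[R] R') : (L σ.symm).ψ ≫ (L σ).ψ = 𝟙 _ := by
  have hs : CommRingCat.ofHom (σ : R' →+* R') ≫ CommRingCat.ofHom (σ.symm : R' →+* R') = 𝟙 _ := by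
    ext r
    exact σ.symm_apply_apply r
  have := isOpenImmersion_Spec R' K'
  apply E.hA.hom_ext
  · rw [Category.assoc, (L σ).hp, (L σ.symm).hp, Category.id_comp]
  · rw [← cancel_mono (Spec.map (CommRingCat.ofHom (algebraMap R' K')))]
    simp only [Category.assoc, Category.id_comp]
    rw [(L σ).ψ_b, reassoc_of% (L σ.symm).ψ_b, ← Spec.map_comp, hs, Spec.map_id, Category.comp_id]

theorem φ_comp [IsIntegral E.X] [Smooth E.x] [IsSeparated E.x] (σ : R' ≃ₐ[R] R') :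
    (L σ.symm).φ ≫ (L σ).φ = 𝟙 _ := by
  have hs : CommRingCat.ofHom (σ : R' →+* R') ≫ CommRingCat.ofHom (σ.symm : R' →+* R') = 𝟙 _ := by
    ext r
    exact σ.symm_apply_apply r
  have hjo : IsOpenImmersion E.j :=
    MorphismProperty.of_isPullback (P := @IsOpenImmersion) E.hX.flip (isOpenImmersion_Spec R' K')
  obtain ⟨ϖ, hϖ⟩ := IsDiscreteValuationRing.exists_irreducible R'
  have hj : E.j.opensRange = E.X.basicOpen (Fga.DVRGeom.scal E.x ϖ) :=
    Fga.DVRGeom.opensRange_eq E.x E.hX hϖ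
  have hne : ((E.j.opensRange : E.X.Opens) : Set E.X).Nonempty := by
    rw [hj, Set.nonempty_iff_ne_empty]
    intro h0
    have h1 : E.X.basicOpen (Fga.DVRGeom.scal E.x ϖ) = ⊥ := by
      ext1
      exact h0
    have h2 : (0 : Γ(E.X, ⊤)) = 1 := Fga.DVRGeom.ores_tr_injective E.x hϖ.ne_zero ⊤ 0 1 (by
      have h3 : Fga.GenIso.tr (Fga.DVRGeom.scal E.x ϖ) ⊤ = ⊥ := by
        rw [Fga.GenIso.tr_eq, h1, bot_inf_eq]
      have h4 : Subsingleton Γ(E.X, Fga.GenIso.tr (Fga.DVRGeom.scal E.x ϖ) ⊤) := by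
        rw [h3]
        exact CommRingCat.subsingleton_of_isTerminal E.X.sheaf.isTerminalOfEmpty
      exact Subsingleton.elim _ _)
    have h5 : Nontrivial Γ(E.X, ⊤) := inferInstance
    exact zero_ne_one h2
  have hdom : IsDominant E.j := by
    refine ⟨?_⟩
    rw [DenseRange, Dense]
    intro y
    exact (IsOpen.dense E.j.opensRange.2 hne) y
  refine ext_of_isDominant_of_isSeparated E.x ?_ E.j ?_
  · rw [Category.assoc, (L σ).hφ, reassoc_of% (L σ.symm).hφ, ← Spec.map_comp, hs, Spec.map_id,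
      Category.comp_id, Category.id_comp]
  · rw [reassoc_of% (L σ.symm).hψ, (L σ).hψ, ← Category.assoc, ψ_comp, Category.id_comp,
      Category.comp_id]

theorem φ_surj [IsIntegral E.X] [Smooth E.x] [IsSeparated E.x] (σ : R' ≃ₐ[R] R') (z : E.X) :
    (L σ).φ ((L σ.symm).φ z) = z := by
  rw [← Scheme.Hom.comp_apply, φ_comp]
  rfl

theorem isIso_φ [IsIntegral E.X] [Smooth E.x] [IsSeparated E.x] (σ : R' ≃ₐ[R] R') :
    IsIso (L σ).φ :=
  ⟨(L σ.symm).φ, by simpa using φ_comp L σ.symm, φ_comp L σ⟩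

end Groth.Agent.Sga7.H331.Data
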