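import Groth.Agent.Sga7.H331.LD
import Groth.Agent.Sga7.H516.Lattice
import Groth.Agent.VarietyB.BCAlg

/-!
# Descent of lattices without boundedness
-/

set_option autoImplicit false
set_option linter.unusedSectionVars false

universe u

open scoped TensorProduct
open IsLocalRing

namespace Groth.Agent.Sga7.H331.LD

variable {R R' K K' : Type u} [CommRing R] [IsDomain R] [IsDiscreteValuationRing R]
  [CommRing R'] [IsDomain R'] [IsDiscreteValuationRing R'] [Algebra R R']
  [Field K] [Algebra R K] [IsFractionRing R K] [Field K'] [Algebra R' K'] [IsFractionRing R' K']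
  [Algebra K K'] [Algebra R K'] [IsScalarTower R K K'] [IsScalarTower R R' K']

theorem inv_univ {ϖ : R} (hϖ' : Irreducible (algebraMap R R' ϖ)) (hfix : FixedRes R R') :
    H516.LatCoord.Inv ϖ (Set.univ : Set (R' ≃ₐ[R] R')) := by
  intro x hx
  obtain ⟨r, hr⟩ := hfix x fun σ => by
    rw [hϖ'.maximalIdeal_eq, Ideal.mem_span_singleton]
    exact hx σ trivial
  refine ⟨r, ?_⟩
  rwa [hϖ'.maximalIdeal_eq, Ideal.mem_span_singleton] at hr

/-- Descent of lattices in explicit form, without boundedness. -/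
theorem exists_sum (hunif : ∀ ϖ : R, Irreducible ϖ → Irreducible (algebraMap R R' ϖ))
    (hfix : FixedRes R R')
    {D D' : Type u} [AddCommGroup D] [Module K D] [AddCommGroup D'] [Module K' D']
    (ι : D →ₛₗ[algebraMap K K'] D') (hι : Function.Bijective (VarietyB.BCAlg.bc ι))
    (B : Set D') (h0 : (0 : D') ∈ B) (hadd : ∀ x ∈ B, ∀ y ∈ B, x + y ∈ B)
    (hsmul : ∀ (r : R'), ∀ x ∈ B, algebraMap R' K' r • x ∈ B)
    (s : (R' ≃ₐ[R] R') → D' →+ D')
    (hs : ∀ σ (b : R') (x : D'), s σ (algebraMap R' K' b • x) = algebraMap R' K' (σ b) • s σ x)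
    (hsι : ∀ σ d, s σ (ι d) = ι d) (hsB : ∀ σ, ∀ x ∈ B, s σ x ∈ B)
    (hK : ∀ d : D, ∃ r : R, r ≠ 0 ∧ algebraMap R' K' (algebraMap R R' r) • ι d ∈ B)
    (x : D') (hx : x ∈ B) :
    ∃ (n : ℕ) (c : Fin n → R') (d : Fin n → D), (∀ i, ι (d i) ∈ B) ∧
      x = ∑ i, algebraMap R' K' (c i) • ι (d i) := by
  classical
  let _ : Module R D := Module.compHom D (algebraMap R K)
  have _ : IsScalarTower R K D := ⟨fun a b c => by
    rw [Algebra.smul_def, mul_smul]
    rfl⟩
  obtain ⟨ϖ, hϖ⟩ := IsDiscreteValuationRing.exists_irreducible R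
  have hϖ' := hunif ϖ hϖ
  let f := VarietyB.BCAlg.bc ι
  have hft : ∀ (a : K') (d : D), f (a ⊗ₜ d) = a • ι d := fun a d => VarietyB.BCAlg.bc_tmul ι a d
  have hfr : ∀ (r : R') (z : K' ⊗[K] D), f (r • z) = algebraMap R' K' r • f z := by
    intro r z
    rw [← map_smul, algebraMap_smul]
  let M : Submodule R' (K' ⊗[K] D) :=
    { carrier := {z | f z ∈ B}
      add_mem' := fun {a b} ha hb => by
        change f (a + b) ∈ B
        rw [map_add]
        exact hadd _ ha _ hb
      zero_mem' := by
        change f 0 ∈ B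
        rwa [map_zero]
      smul_mem' := fun r z hz => by
        change f (r • z) ∈ B
        rw [hfr]
        exact hsmul r _ hz }
  have hact : ∀ (σ : R' ≃ₐ[R] R') (z : K' ⊗[K] D), f (H516.Lattice.act K K' D σ z) = s σ (f z) := by
    intro σ z
    induction z with
    | zero => rw [map_zero, map_zero, map_zero]
    | add z w hz hw => rw [map_add, map_add, map_add, map_add, hz, hw]
    | tmul a d =>
      rw [H516.Lattice.act_tmul, hft, hft]
      obtain ⟨p, q, hq, rfl⟩ := IsFractionRing.div_surjective R' a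
      have hq0 : algebraMap R' K' q ≠ 0 :=
        (map_ne_zero_iff _ (IsFractionRing.injective R' K')).mpr (nonZeroDivisors.ne_zero hq)
      have hσq0 : algebraMap R' K' (σ q) ≠ 0 :=
        (map_ne_zero_iff _ (IsFractionRing.injective R' K')).mpr
          ((map_ne_zero_iff _ σ.injective).mpr (nonZeroDivisors.ne_zero hq))
      apply smul_right_injective D' hσq0
      change algebraMap R' K' (σ q) • _ = algebraMap R' K' (σ q) • s σ _
      rw [← hs, smul_smul, smul_smul, mul_div_cancel₀ _ hq0, hs, hsι, map_div₀,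
        IsFractionRing.fieldEquivOfAlgEquiv_algebraMap, IsFractionRing.fieldEquivOfAlgEquiv_algebraMap,
        mul_div_cancel₀ _ hσq0]
  have h1 := H516.Lattice.le_span_of_stable (R := R) (K := K) (K' := K') (V := D) hϖ.ne_zero
    hϖ'.ne_zero (fun x hx => by
      obtain ⟨n, hn⟩ := IsDiscreteValuationRing.associated_pow_irreducible hx hϖ'
      exact ⟨n, hn.dvd⟩) (inv_univ hϖ' hfix) (fun x hx => by
      by_contra hcon
      apply hx
      rw [← Ideal.mem_span_singleton, ← hϖ'.maximalIdeal_eq]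
      exact hcon) (fun r hr => by
      rw [← Ideal.mem_span_singleton, ← hϖ.maximalIdeal_eq, mem_maximalIdeal]
      intro hu
      exact hϖ'.not_isUnit (isUnit_of_dvd_unit hr (hu.map _))) M
    (fun σ _ z hz => by
      change f (H516.Lattice.act K K' D σ z) ∈ B
      rw [hact]
      exact hsB σ _ hz)
    (fun d => by
      obtain ⟨r, hr, hrd⟩ := hK d
      have hr' : algebraMap R R' r ≠ 0 := by
        intro h0
        have h2 : algebraMap K K' (algebraMap R K r) = 0 := by
          rw [← IsScalarTower.algebraMap_apply, IsScalarTower.algebraMap_apply R R' K', h0, map_zero]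
        rw [map_eq_zero, map_eq_zero_iff _ (IsFractionRing.injective R K)] at h2
        exact hr h2
      obtain ⟨n, hn⟩ := IsDiscreteValuationRing.associated_pow_irreducible hr' hϖ'
      obtain ⟨w, hw⟩ := hn.dvd
      refine ⟨n, ?_⟩
      change f (_ • _) ∈ B
      rw [hfr, hft, one_smul, hw, map_mul, mul_comm, mul_smul]
      exact hsmul w _ hrd)
  obtain ⟨z, rfl⟩ := hι.2 x
  have hz : z ∈ M := hx
  rw [h1] at hz
  obtain ⟨n, c, g, hg⟩ := Submodule.mem_span_set'.mp hz
  choose d hd hdg using fun i => (g i).2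
  refine ⟨n, c, d, fun i => ?_, ?_⟩
  · have h2 : f ((1 : K') ⊗ₜ[K] d i) ∈ B := hd i
    rwa [hft, one_smul] at h2
  · rw [← hg]
    change f _ = _
    rw [map_sum]
    refine Finset.sum_congr rfl fun i _ => ?_
    rw [hfr, ← hdg i]
    change _ • f ((1 : K') ⊗ₜ[K] d i) = _
    rw [hft, one_smul]

end Groth.Agent.Sga7.H331.LD
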