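import Groth.Agent.Sga7.H331.CovLift
import Groth.Agent.Sga7.H331.CovGeom
import Groth.Agent.Sga7.H331.LD2
import Groth.Agent.VarietyB.FlatH0
import Groth.Agent.Ega2.QCohLocal

/-!
# Covering by stable charts
-/

set_option autoImplicit false
set_option linter.unusedSectionVars false

universe u

open CategoryTheory CategoryTheory.Limits AlgebraicGeometry TopologicalSpace
open Groth.Agent.Fdesc.LocGen Groth.Agent.Ega2.Nv Groth.Agent.Ega2.Ample Groth.Agent.Fga.GenIso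
open Groth.Agent.Sga7.H260.Div Groth.Agent.Sga7.H331.NvMore Groth.Agent.Sga7.H331.CovGeom

namespace Groth.Agent.Sga7.H331.Data

open VarietyB.FlatH0 VarietyB.BCAlg VarietyB.PullSec

/-- Flat base change for global sections, for a given algebra structure. -/
theorem exists_semilinear {K K' : Type u} [Field K] [Field K'] (alg : Algebra K K')
    {A P : Scheme.{u}} {p : P ⟶ A} {b : P ⟶ Spec (CommRingCat.of K')} {a : A ⟶ Spec (CommRingCat.of K)}
    (H : IsPullback p b a (Spec.map (CommRingCat.ofHom (algebraMap K K'))))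
    [CompactSpace A] [QuasiSeparatedSpace A] (M : A.Modules) (hM : PicF.IsInvertible M) :
    letI : Module K Γ(M, ⊤) := modSpec (A := CommRingCat.of K) a M
    letI : Module K' Γ((Scheme.Modules.pullback p).obj M, ⊤) := modSpec (A := CommRingCat.of K') b _
    ∃ ι : Γ(M, ⊤) →ₛₗ[algebraMap K K'] Γ((Scheme.Modules.pullback p).obj M, ⊤),
      (∀ m, ι m = sec p M (le_top : (⊤ : P.Opens) ≤ p ⁻¹ᵁ ⊤) m) ∧ Function.Bijective (bc ι) := by
  have key : ∀ (f : K →+* K') (hf : @algebraMap K K' _ _ alg = f)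
      (H : IsPullback p b a (Spec.map (CommRingCat.ofHom f))),
      letI : Module K Γ(M, ⊤) := modSpec (A := CommRingCat.of K) a M
      letI : Module K' Γ((Scheme.Modules.pullback p).obj M, ⊤) := modSpec (A := CommRingCat.of K') b _
      ∃ ι : Γ(M, ⊤) →ₛₗ[algebraMap K K'] Γ((Scheme.Modules.pullback p).obj M, ⊤),
      (∀ m, ι m = sec p M (le_top : (⊤ : P.Opens) ≤ p ⁻¹ᵁ ⊤) m) ∧ Function.Bijective (bc ι) := by
    intro f hf H
    obtain rfl : alg = f.toAlgebra := Algebra.algebra_ext _ _ (fun r => by rw [hf]; rfl)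
    let _ := f.toAlgebra
    have hflat : f.Flat := by
      change Module.Flat K K'
      infer_instance
    exact ⟨secSpec (A := CommRingCat.of K) (B := CommRingCat.of K') (φ := CommRingCat.ofHom f) H.w M,
      fun m => rfl, bijective_bc_secSpec (A := CommRingCat.of K) (B := CommRingCat.of K')
        (φ := CommRingCat.ofHom f) H hflat M (Ega2.QCohLocal.isQCoh_of_isInvertible hM)⟩
  exact key _ rfl H

theorem isBij_ofSec {X P : Scheme.{u}} (j : P ⟶ X) [IsOpenImmersion j] (M : X.Modules) {N : P.Modules}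
    (e : (Scheme.Modules.pullback j).obj M ≅ N) : IsBij ((PB.ofSec j M).ofIso e) := by
  intro U V h h'
  have h1 := Fga.SecComp.sec_bijective_of_isOpenImmersion j M h h'
  have h2 : Function.Bijective (e.hom.app V) := ConcreteCategory.bijective_of_isIso (e.hom.app V)
  exact h2.comp h1

variable {R R' K K' : Type u} [CommRing R] [IsDomain R] [IsDiscreteValuationRing R]
  [CommRing R'] [IsDomain R'] [IsDiscreteValuationRing R'] [Algebra R R']
  [Field K] [Algebra R K] [IsFractionRing R K] [Field K'] [Algebra R' K'] [IsFractionRing R' K']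
  [Algebra K K'] [Algebra R K'] [IsScalarTower R K K'] [IsScalarTower R R' K']
  {E : Data R' K K'} (L : ∀ σ : R' ≃ₐ[R] R', E.Lift σ)

/-- Points of the special fibre have stable affine neighbourhoods. -/
theorem exists_chart_special (hunif : ∀ ϖ : R, Irreducible ϖ → Irreducible (algebraMap R R' ϖ))
    (hfix : LD.FixedRes R R') [IsIntegral E.X] [Smooth E.x] [IsSeparated E.x] [QuasiCompact E.x]
    [QuasiCompact E.a] [QuasiSeparated E.a]
    (hirr : IsPreirreducible {z : E.X | E.x z = (IsLocalRing.closedPoint R' : PrimeSpectrum R')})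
    {M' : E.X.Modules} (hM' : PicF.IsInvertible M') {M : E.A.Modules} (hM : PicF.IsInvertible M)
    (haff : ∀ t : Γ(M, ⊤), IsAffineOpen (nv M t))
    (e : (Scheme.Modules.pullback E.j).obj M' ≅ (Scheme.Modules.pullback E.p).obj M)
    {y : E.X} (hy : E.x y = (IsLocalRing.closedPoint R' : PrimeSpectrum R'))
    (s : Γ(M', ⊤)) (hs : y ∈ nv M' s) (hsa : IsAffineOpen (nv M' s)) : ∃ c : Chart L, y ∈ c.U := by
  obtain ⟨ϖ, hϖ⟩ := IsDiscreteValuationRing.exists_irreducible R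
  have hϖ' := hunif ϖ hϖ
  have hjo : IsOpenImmersion E.j :=
    MorphismProperty.of_isPullback (P := @IsOpenImmersion) E.hX.flip (isOpenImmersion_Spec R' K')
  have hpa : IsAffineHom E.p :=
    MorphismProperty.of_isPullback (P := @IsAffineHom) E.hA.flip inferInstance
  have hAc : CompactSpace E.A := (quasiCompact_iff_compactSpace (f := E.a)).mp inferInstance
  have hAq : QuasiSeparatedSpace E.A := quasiSeparatedSpace_of_quasiSeparated E.a
  have hXc : CompactSpace E.X := (quasiCompact_iff_compactSpace (f := E.x)).mp inferInstance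
  have hXn : IsLocallyNoetherian E.X := LocallyOfFiniteType.isLocallyNoetherian E.x
  set π : Γ(E.X, ⊤) := Fga.DVRGeom.scal E.x (algebraMap R R' ϖ) with hπ
  have hj : E.j.opensRange = E.X.basicOpen π := Fga.DVRGeom.opensRange_eq E.x E.hX hϖ'
  have hD : ∀ (U : E.X.Opens) (a b : Γ(E.X, U)), ores (tr_le π U) a = ores (tr_le π U) b → a = b :=
    Fga.DVRGeom.ores_tr_injective E.x hϖ'.ne_zero
  have hp : ∀ y : E.X, y ∉ E.X.basicOpen π → (Ideal.span {gp π y}).IsPrime :=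
    Fga.DVRGeom.isPrime_span_ge E.x hϖ'
  have hset : {z : E.X | E.x z = (IsLocalRing.closedPoint R' : PrimeSpectrum R')} =
      ((E.X.basicOpen π : Set E.X)ᶜ) := by
    ext z
    exact (Fga.DVRGeom.notMem_basicOpen_iff E.x hϖ' z).symm
  have hyπ : y ∉ E.X.basicOpen π := (Fga.DVRGeom.notMem_basicOpen_iff E.x hϖ' y).mpr hy
  rw [hset] at hirr
  clear_value π
  let N := (Scheme.Modules.pullback E.p).obj M
  let cp : PB E.p M N := PB.ofSec E.p M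
  let cj : PB E.j M' N := (PB.ofSec E.j M').ofIso e
  have hcj : IsBij cj := isBij_ofSec E.j M' e
  let cψ : ∀ σ : R' ≃ₐ[R] R', PB (L σ).ψ N N := fun σ => PB.ofTr (L σ).ψ E.p E.p (L σ).hp M
  have hloc' := locGen_top_iff.2 hM'
  have hloc := locGen_top_iff.2 hM
  have hlocN : LocGen N ⊤ := locGen_top_iff.2 (isInvertible_pullback E.p hM)
  have hinv : ∀ (σ : R' ≃ₐ[R] R') (t : Γ(M, ⊤)),
      (cψ σ).c (le_top : (⊤ : E.P.Opens) ≤ (L σ).ψ ⁻¹ᵁ ⊤) (cp.c (le_top : (⊤ : E.P.Opens) ≤ E.p ⁻¹ᵁ ⊤) t) =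
        cp.c (le_top : (⊤ : E.P.Opens) ≤ E.p ⁻¹ᵁ ⊤) t := fun σ t =>
    Flat2F.BCSec.tr_sec (L σ).ψ E.p E.p (L σ).hp M _ _ _ t
  clear_value cψ cj
  let _ : Module K Γ(M, ⊤) := modSpec (A := CommRingCat.of K) E.a M
  let _ : Module K' Γ(N, ⊤) := modSpec (A := CommRingCat.of K') E.b N
  obtain ⟨ι, hιc, hι⟩ := exists_semilinear inferInstance E.hA M hM
  have hιc' : ∀ m, ι m = cp.c (le_top : (⊤ : E.P.Opens) ≤ E.p ⁻¹ᵁ ⊤) m := hιc
  have hKsmul : ∀ (a : K') (t : Γ(N, ⊤)), a • t = (Fga.DVRGeom.scal E.b a : Γ(E.P, ⊤)) • t :=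
    fun a t => rfl
  have hjπ : (E.j.appTop π : Γ(E.P, ⊤)) =
      Fga.DVRGeom.scal E.b (algebraMap R' K' (algebraMap R R' ϖ)) := by
    rw [hπ, j_scal]
  have hjπu : IsUnit (E.j.appTop π : Γ(E.P, ⊤)) := isUnit_appTop (j := E.j) hj.le
  -- semilinearity
  have hS : ∀ (σ : R' ≃ₐ[R] R') (b : R') (t : Γ(N, ⊤)),
      (cψ σ).c (le_top : (⊤ : E.P.Opens) ≤ (L σ).ψ ⁻¹ᵁ ⊤) (algebraMap R' K' b • t) =
        algebraMap R' K' (σ b) • (cψ σ).c (le_top : (⊤ : E.P.Opens) ≤ (L σ).ψ ⁻¹ᵁ ⊤) t := by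
    intro σ b t
    rw [hKsmul, hKsmul, c_smul_top, (L σ).ψ_scal]
  -- the operators preserve the set of good sections
  let B : Set Γ(N, ⊤) := {t | ∃ s : Γ(M', ⊤), cj.c (le_top : (⊤ : E.P.Opens) ≤ E.j ⁻¹ᵁ ⊤) s = t ∧
    IsAffineOpen (nv M' s)}
  -- a section defined over `K` which does not vanish somewhere
  obtain ⟨x, hxs, hxπ⟩ : ∃ x ∈ nv M' s, x ∈ E.X.basicOpen π := by
    have hne : ((E.X.basicOpen π : E.X.Opens) : Set E.X).Nonempty := by
      rw [Set.nonempty_iff_ne_empty]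
      intro h0
      have h1 : E.X.basicOpen π = ⊥ := by
        ext1
        exact h0
      have h2 : (0 : Γ(E.X, ⊤)) = 1 := by
        refine hD ⊤ 0 1 ?_
        have h3 : tr π ⊤ = ⊥ := by
          rw [tr_eq, h1, bot_inf_eq]
        have h4 : Subsingleton Γ(E.X, tr π ⊤) := by
          rw [h3]
          exact CommRingCat.subsingleton_of_isTerminal E.X.sheaf.isTerminalOfEmpty
        exact Subsingleton.elim _ _
      exact zero_ne_one h2
    obtain ⟨x, hx, hx'⟩ := nonempty_preirreducible_inter (nv M' s).2 (E.X.basicOpen π).2 ⟨y, hs⟩ hne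
    exact ⟨x, hx, hx'⟩
  rw [← hj] at hxπ
  obtain ⟨w, rfl⟩ := hxπ
  have hws : w ∈ nv N (cj.c (le_top : (⊤ : E.P.Opens) ≤ E.j ⁻¹ᵁ ⊤) s) := by
    rw [cj.nv_c _ hloc']
    exact ⟨trivial, hxs⟩
  obtain ⟨d₀, hd₀⟩ : ∃ d₀ : Γ(M, ⊤), w ∈ nv N (cp.c (le_top : (⊤ : E.P.Opens) ≤ E.p ⁻¹ᵁ ⊤) d₀) := by
    have hspan : ∀ t : Γ(N, ⊤), t ∈ Submodule.span K' (Set.range ι) := by
      intro t
      obtain ⟨z, rfl⟩ := hι.2 t
      induction z with
      | zero => rw [map_zero]; exact Submodule.zero_mem _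
      | add x y hx hy => rw [map_add]; exact Submodule.add_mem _ hx hy
      | tmul a m =>
        rw [bc_tmul]
        exact Submodule.smul_mem _ _ (Submodule.subset_span ⟨m, rfl⟩)
    obtain ⟨n, c, g, hg⟩ := Submodule.mem_span_set'.mp
      (hspan (cj.c (le_top : (⊤ : E.P.Opens) ≤ E.j ⁻¹ᵁ ⊤) s))
    choose d hd using fun i => (g i).2
    rw [← hg] at hws
    obtain ⟨i, hi⟩ := exists_mem_nv hlocN (fun i => (Fga.DVRGeom.scal E.b (c i) : Γ(E.P, ⊤)))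
      (fun i => (g i : Γ(N, ⊤))) hws
    exact ⟨d i, by rw [← hιc', hd i]; exact hi⟩
  obtain ⟨a, b, s₀, hs₀, hz₀⟩ := exists_normalized hj hD hM' hcj hp _ ⟨w, hd₀⟩ ⟨y, hyπ⟩
  have hφπ : ∀ σ : R' ≃ₐ[R] R', (L σ).φ.appTop π = π := fun σ => by
    rw [hπ, (L σ).scal_algebraMap]
  have hφz : ∀ (σ : R' ≃ₐ[R] R') (U : E.X.Opens), (∃ z ∈ U, z ∉ E.X.basicOpen π) →
      ∃ z ∈ (L σ).φ ⁻¹ᵁ U, z ∉ E.X.basicOpen π := by
    rintro σ U ⟨z, hz, hzπ⟩
    refine ⟨(L σ.symm).φ z, ?_, ?_⟩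
    · change (L σ).φ ((L σ.symm).φ z) ∈ U
      rw [φ_surj]
      exact hz
    · intro h
      apply hzπ
      rw [← preimage_basicOpen_eq (hφπ σ)] at h
      change (L σ).φ ((L σ.symm).φ z) ∈ E.X.basicOpen π at h
      rwa [φ_surj] at h
  have hSs₀ : ∀ σ : R' ≃ₐ[R] R', (cψ σ).c (le_top : (⊤ : E.P.Opens) ≤ (L σ).ψ ⁻¹ᵁ ⊤)
      (cj.c (le_top : (⊤ : E.P.Opens) ≤ E.j ⁻¹ᵁ ⊤) s₀) =
      cj.c (le_top : (⊤ : E.P.Opens) ≤ E.j ⁻¹ᵁ ⊤) s₀ := by
    intro σ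
    have h1 : (L σ).ψ.appTop (E.j.appTop π) = E.j.appTop π := by
      rw [hjπ, (L σ).ψ_scal, σ.commutes]
    apply (hjπu.pow a).smul_left_cancel.mp
    have h2 := congr((cψ σ).c (le_top : (⊤ : E.P.Opens) ≤ (L σ).ψ ⁻¹ᵁ ⊤) $hs₀)
    rw [c_smul_top, c_smul_top, hinv, map_pow, map_pow, h1] at h2
    rw [h2, hs₀]
  have hSB : ∀ σ : R' ≃ₐ[R] R', ∀ t ∈ B, (cψ σ).c (le_top : (⊤ : E.P.Opens) ≤ (L σ).ψ ⁻¹ᵁ ⊤) t ∈ B := by
    rintro σ _ ⟨s₁, rfl, hs₁⟩
    obtain ⟨s', h1, h2⟩ := exists_act hj hD hM' hcj hp hirr (L σ).hψ (cψ σ) s₀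
      (exists_common hirr hz₀ (hφz σ _ hz₀)) (hSs₀ σ) s₁
    refine ⟨s', h1, ?_⟩
    rw [h2]
    have := isIso_φ L σ
    exact hs₁.preimage (L σ).φ
  have hK : ∀ d : Γ(M, ⊤), ∃ r : R, r ≠ 0 ∧ algebraMap R' K' (algebraMap R R' r) • ι d ∈ B := by
    intro d
    obtain ⟨k, s₁, hs₁⟩ := exists_ext hj hD hM' hcj (cp.c (le_top : (⊤ : E.P.Opens) ≤ E.p ⁻¹ᵁ ⊤) d)
    refine ⟨ϖ ^ (k + 1), pow_ne_zero _ hϖ.ne_zero, π • s₁, ?_, ?_⟩
    · rw [c_smul_top, hs₁, hιc', hKsmul, smul_smul, ← pow_succ', hjπ]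
      congr 1
      rw [map_pow, map_pow, Fga.DVRGeom.scal, Fga.DVRGeom.scal, map_pow, map_pow]
    · have h1 : E.j ⁻¹ᵁ (nv M' s₁) = E.p ⁻¹ᵁ (nv M d) := by
        have h2 := cj.nv_c (le_top : (⊤ : E.P.Opens) ≤ E.j ⁻¹ᵁ ⊤) hloc' s₁
        rw [hs₁, NvMore.nv_smul_inf hlocN, cp.nv_c _ hloc, E.P.basicOpen_of_isUnit (hjπu.pow k),
          inf_top_eq, top_inf_eq, top_inf_eq] at h2
        exact h2.symm
      rw [NvMore.nv_smul_inf hloc', ← hj, inf_comm, ← Scheme.Hom.image_preimage_eq_opensRange_inf, h1]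
      exact ((haff d).preimage E.p).image_of_isOpenImmersion E.j
  -- descent
  obtain ⟨n, c, d, hd, hsum⟩ := LD.exists_sum hunif hfix ι hι B ⟨0, by rw [map_zero], by
      have h0 : nv M' (0 : Γ(M', ⊤)) = ⊥ := by
        have h1 := NvMore.nv_smul_inf hloc' (0 : Γ(E.X, ⊤)) (0 : Γ(M', ⊤))
        rw [smul_zero, Scheme.basicOpen_zero, inf_bot_eq] at h1
        exact h1
      rw [h0]
      exact isAffineOpen_bot _⟩ (by
      rintro _ ⟨s₁, rfl, h₁⟩ _ ⟨s₂, rfl, h₂⟩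
      exact ⟨s₁ + s₂, map_add _ _ _, isAffineOpen_nv_add hloc' s₁ s₂ h₁ h₂⟩) (by
      rintro r _ ⟨s₁, rfl, h₁⟩
      refine ⟨(Fga.DVRGeom.scal E.x r : Γ(E.X, ⊤)) • s₁, ?_, isAffineOpen_nv_smul hloc' _ s₁ h₁⟩
      rw [c_smul_top, j_scal]
      rfl)
    (fun σ => (cψ σ).c (le_top : (⊤ : E.P.Opens) ≤ (L σ).ψ ⁻¹ᵁ ⊤)) hS
    (fun σ t => by rw [hιc', hinv]) hSB hK _ ⟨s, rfl, hsa⟩
  choose s' hs' hs'a using hd
  have hsum' : s = ∑ i, (Fga.DVRGeom.scal E.x (c i) : Γ(E.X, ⊤)) • s' i := by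
    apply c_injective hj hD hM' hcj (le_top : (⊤ : E.P.Opens) ≤ E.j ⁻¹ᵁ ⊤) le_top
    rw [hsum, map_sum]
    refine Finset.sum_congr rfl fun i _ => ?_
    rw [c_smul_top, j_scal, hs']
    rfl
  rw [hsum'] at hs
  obtain ⟨i, hi⟩ := exists_mem_nv hloc' _ _ hs
  have hUV : E.p ⁻¹ᵁ (nv M (d i)) = E.j ⁻¹ᵁ (nv M' (s' i)) := by
    have h1 := cj.nv_c (le_top : (⊤ : E.P.Opens) ≤ E.j ⁻¹ᵁ ⊤) hloc' (s' i)
    rw [hs', hιc', cp.nv_c _ hloc, top_inf_eq, top_inf_eq] at h1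
    exact h1
  refine ⟨⟨nv M' (s' i), nv M (d i), hs'a i, haff (d i), ⟨y, hi⟩, hUV, fun σ => ?_⟩, hi⟩
  refine le_preimage hj hD hp hirr (L σ).hψ (locPrincipal_nv hloc' (s' i)) ?_ (hφz σ _ ⟨y, hi, hyπ⟩)
  rw [← hUV, ← Scheme.Hom.comp_preimage, (L σ).hp]

end Groth.Agent.Sga7.H331.Data
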