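import Groth.Agent.Sga7.H331.Cover
import Groth.Agent.Pi1C.LefEmb
import Groth.Agent.Divis.NormAmple
import Groth.Agent.Grpsch.PicGrp

/-!
# Descent of a smooth scheme with an ample invertible module from `R'` to `R`
-/

set_option autoImplicit false
set_option linter.unusedSectionVars false

universe u

open CategoryTheory CategoryTheory.Limits AlgebraicGeometry TopologicalSpace
open Groth.Agent.Fdesc.LocGen Groth.Agent.Ega2.Nv Groth.Agent.Ega2.Ample

namespace Groth.Agent.Sga7.H331

theorem isAffineOpen_nv_of_isProper {k : Type u} [Field k] {X : Scheme.{u}}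
    (f : X ⟶ Spec (CommRingCat.of k)) [IsProper f] {L : X.Modules} (hL : CohB1.IsAmple L)
    {n : ℕ} (hn : 0 < n) (t : Γ(CohB1.tensorPow L n, ⊤)) : IsAffineOpen (nv (CohB1.tensorPow L n) t) := by
  have hL' := Divis.NormAmple.isAmple_tensorPow hL hn
  rw [nv_eq_genLocus]
  obtain ⟨r, D, hU, -, -, h1, -⟩ := Groth.Agent.Pi1C.LefEmb.exists_coordData f hL' (homOf t)
  have h2 : D.U 0 = CohB1.genLocus (CohB1.tensorPow L n) (homOf t) := by
    ext x
    have h3 := h1 x
    rw [Groth.Agent.Pi1C.ZeroScheme.mem_support_iff (homOf t) hL'.1 x, not_not] at h3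
    exact h3
  rw [← h2]
  exact hU 0

open Grpsch.PicGrp in
/-- `f^*(L^n) ≅ (f^*L)^n`. -/
theorem nonempty_pullback_tensorPow {X Y : Scheme.{u}} (f : Y ⟶ X) {L : X.Modules}
    (hL : PicF.IsInvertible L) (n : ℕ) :
    Nonempty ((Scheme.Modules.pullback f).obj (CohB1.tensorPow L n) ≅
      CohB1.tensorPow ((Scheme.Modules.pullback f).obj L) n) := by
  have h : pull f (mk (CohB1.tensorPow L n) (isInvertible_tensorPow hL n)) =
      mk (CohB1.tensorPow ((Scheme.Modules.pullback f).obj L) n)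
        (isInvertible_tensorPow (isInvertible_pullback f hL) n) := by
    rw [mk_tensorPow hL, mk_tensorPow (isInvertible_pullback f hL), map_pow, pull_mk]
  rw [pull_mk, mk_eq_iff] at h
  exact h

open Grpsch.PicGrp in
theorem nonempty_tensorPow_iso {X Y Z : Scheme.{u}} (f : Z ⟶ X) (g : Z ⟶ Y) {L : X.Modules} {M : Y.Modules}
    (hL : PicF.IsInvertible L) (hM : PicF.IsInvertible M)
    (e : (Scheme.Modules.pullback f).obj L ≅ (Scheme.Modules.pullback g).obj M) (n : ℕ) :
    Nonempty ((Scheme.Modules.pullback f).obj (CohB1.tensorPow L n) ≅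
      (Scheme.Modules.pullback g).obj (CohB1.tensorPow M n)) := by
  have h : pull f (mk L hL) = pull g (mk M hM) := by
    rw [pull_mk, pull_mk]
    exact mk_congr e
  have h2 : pull f (mk (CohB1.tensorPow L n) (isInvertible_tensorPow hL n)) =
      pull g (mk (CohB1.tensorPow M n) (isInvertible_tensorPow hM n)) := by
    rw [mk_tensorPow hL, mk_tensorPow hM, map_pow, map_pow, h]
  rw [pull_mk, pull_mk, mk_eq_iff] at h2
  exact h2

namespace Data

variable {R R' K K' : Type u} [CommRing R] [IsDomain R] [IsDiscreteValuationRing R]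
  [CommRing R'] [IsDomain R'] [IsDiscreteValuationRing R'] [Algebra R R']
  [Field K] [Algebra R K] [IsFractionRing R K] [Field K'] [Algebra R' K'] [IsFractionRing R' K']
  [Algebra K K'] [Algebra R K'] [IsScalarTower R K K'] [IsScalarTower R R' K']
  {E : Data R' K K'} (L : ∀ σ : R' ≃ₐ[R] R', E.Lift σ)

/-- **COVER**: every point of `X` has a stable affine neighbourhood whose generic fibre is defined over `K`. -/
theorem exists_chart (hunif : ∀ ϖ : R, Irreducible ϖ → Irreducible (algebraMap R R' ϖ))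
    (hfix : LD.FixedRes R R') [IsIntegral E.X] [Smooth E.x] [IsSeparated E.x] [QuasiCompact E.x]
    [IsProper E.a]
    (hirr : IsPreirreducible {z : E.X | E.x z = (IsLocalRing.closedPoint R' : PrimeSpectrum R')})
    {L' : E.X.Modules} (hL' : CohB1.IsAmple L') {LA : E.A.Modules} (hLA : CohB1.IsAmple LA)
    (e : (Scheme.Modules.pullback E.j).obj L' ≅ (Scheme.Modules.pullback E.p).obj LA) (y : E.X) :
    ∃ c : Chart L, y ∈ c.U := by
  by_cases hy : E.x y = (IsLocalRing.closedPoint R' : PrimeSpectrum R')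
  · obtain ⟨n, s, hs, hsa⟩ := hL'.2.2 y
    rw [genLocus_eq_nv] at hs hsa
    obtain ⟨e'⟩ := nonempty_tensorPow_iso E.j E.p hL'.1 hLA.1 e (n + 1)
    exact exists_chart_special L hunif hfix hirr (isInvertible_tensorPow hL'.1 (n + 1))
      (isInvertible_tensorPow hLA.1 (n + 1))
      (isAffineOpen_nv_of_isProper E.a hLA (Nat.succ_pos n)) e' hy _ hs hsa
  · have hjo : IsOpenImmersion E.j :=
      MorphismProperty.of_isPullback (P := @IsOpenImmersion) E.hX.flip (isOpenImmersion_Spec R' K')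
    obtain ⟨ϖ, hϖ⟩ := IsDiscreteValuationRing.exists_irreducible R'
    have hj : E.j.opensRange = E.X.basicOpen (Fga.DVRGeom.scal E.x ϖ) :=
      Fga.DVRGeom.opensRange_eq E.x E.hX hϖ
    have hy' : y ∈ E.X.basicOpen (Fga.DVRGeom.scal E.x ϖ) := by
      by_contra h
      exact hy ((Fga.DVRGeom.notMem_basicOpen_iff E.x hϖ y).mp h)
    rw [← hj] at hy'
    obtain ⟨w, rfl⟩ := hy'
    obtain ⟨c, hc⟩ := Chart.exists_mem_V L (E.p w)
    refine ⟨c, ?_⟩
    have h1 : w ∈ E.p ⁻¹ᵁ c.V := hc
    rw [c.hUV] at h1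
    exact h1

/-- **Descent of a smooth scheme with a compatible ample module.** -/
theorem exists_descent_of_isAmple (hunif : ∀ ϖ : R, Irreducible ϖ → Irreducible (algebraMap R R' ϖ))
    (hfix : LD.FixedRes R R') (hR' : EtCoh.IsStrictlyHenselianLocalRing R')
    [IsIntegral E.X] [Smooth E.x] [IsSeparated E.x] [QuasiCompact E.x] [IsProper E.a]
    (hirr : IsPreirreducible {z : E.X | E.x z = (IsLocalRing.closedPoint R' : PrimeSpectrum R')})
    {L' : E.X.Modules} (hL' : CohB1.IsAmple L') {LA : E.A.Modules} (hLA : CohB1.IsAmple LA)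
    (e : (Scheme.Modules.pullback E.j).obj L' ≅ (Scheme.Modules.pullback E.p).obj LA)
    (L : ∀ σ : R' ≃ₐ[R] R', E.Lift σ) :
    ∃ (Y : Scheme.{u}) (y : Y ⟶ Spec (CommRingCat.of R)) (f : E.X ⟶ Y) (g : E.A ⟶ Y),
      IsPullback f E.x y (Spec.map (CommRingCat.ofHom (algebraMap R R'))) ∧
      IsPullback g E.a y (Spec.map (CommRingCat.ofHom (algebraMap R K))) ∧ E.j ≫ f = E.p ≫ g :=
  exists_descent hunif hfix hR' L (exists_chart L hunif hfix hirr hL' hLA e)

end Data

end Groth.Agent.Sga7.H331
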