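import Groth.Agent.Sga7.H331.Chart
import Groth.Agent.Sga7.H331.ChartCat

/-!
# Descent of a scheme over `R'` with an action of `Aut(R'/R)` which is covered by stable affine charts
-/

set_option autoImplicit false
set_option linter.unusedSectionVars false

universe u

open CategoryTheory CategoryTheory.Limits AlgebraicGeometry

namespace Groth.Agent.Sga7.H331

theorem isLocalizationAway (A L : Type u) [CommRing A] [IsDomain A] [IsDiscreteValuationRing A]
    [Field L] [Algebra A L] [IsFractionRing A L] (t : A) (ht : Irreducible t) :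
    IsLocalization.Away t L := by
  refine (IsLocalization.iff_of_le_of_exists_dvd (M := Submonoid.powers t) (S := L)
    (nonZeroDivisors A) ?_ ?_).2 inferInstance
  · rw [Submonoid.powers_le]
    exact mem_nonZeroDivisors_of_ne_zero ht.ne_zero
  · intro n hn
    obtain ⟨k, hk⟩ := IsDiscreteValuationRing.associated_pow_irreducible
      (nonZeroDivisors.ne_zero hn) ht
    exact ⟨t ^ k, ⟨k, rfl⟩, hk.dvd⟩

theorem isOpenImmersion_Spec (A L : Type u) [CommRing A] [IsDomain A] [IsDiscreteValuationRing A]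
    [Field L] [Algebra A L] [IsFractionRing A L] :
    IsOpenImmersion (Spec.map (CommRingCat.ofHom (algebraMap A L))) := by
  obtain ⟨t, ht⟩ := IsDiscreteValuationRing.exists_irreducible A
  have := isLocalizationAway A L t ht
  exact IsOpenImmersion.of_isLocalization t

namespace Data

variable {R R' K K' : Type u} [CommRing R] [IsDomain R] [IsDiscreteValuationRing R]
  [CommRing R'] [IsDomain R'] [IsDiscreteValuationRing R'] [Algebra R R']
  [Field K] [Algebra R K] [IsFractionRing R K] [Field K'] [Algebra R' K'] [IsFractionRing R' K']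
  [Algebra K K'] [Algebra R K'] [IsScalarTower R K K'] [IsScalarTower R R' K']
  {E : Data R' K K'} {L : ∀ σ : R' ≃ₐ[R] R', E.Lift σ}

namespace Chart

variable (c : Chart L)

omit [IsDomain R] [IsDiscreteValuationRing R] [IsDomain R'] [IsDiscreteValuationRing R']
  [IsFractionRing R K] [IsFractionRing R' K'] in
theorem ofHom_comp : CommRingCat.ofHom (algebraMap R R') ≫ CommRingCat.ofHom (algebraMap R' K') =
    CommRingCat.ofHom (algebraMap R K) ≫ CommRingCat.ofHom (algebraMap K K') := by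
  rw [← CommRingCat.ofHom_comp, ← CommRingCat.ofHom_comp, ← IsScalarTower.algebraMap_eq,
    ← IsScalarTower.algebraMap_eq]

omit [IsDomain R] [IsDiscreteValuationRing R] [IsDomain R'] [IsDiscreteValuationRing R']
  [Algebra R K] [IsFractionRing R K] [IsFractionRing R' K'] [Algebra R K'] [IsScalarTower R K K']
  [IsScalarTower R R' K'] in
theorem co_fU : Sec.co E.x c.U ≫ c.fU =
    CommRingCat.ofHom (algebraMap R' K') ≫ Sec.co E.b (E.p ⁻¹ᵁ c.V) :=
  Sec.co_appLE E.x E.b E.hX.w _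

omit [IsDomain R] [IsDiscreteValuationRing R] [IsDomain R'] [IsDiscreteValuationRing R']
  [Algebra R K] [IsFractionRing R K] [IsFractionRing R' K'] [Algebra R K'] [IsScalarTower R K K']
  [IsScalarTower R R' K'] in
theorem co_fV : Sec.co E.a c.V ≫ c.fV =
    CommRingCat.ofHom (algebraMap K K') ≫ Sec.co E.b (E.p ⁻¹ᵁ c.V) :=
  Sec.co_appLE E.a E.b E.hA.w _

/-- `R → C`. -/
noncomputable def fromR : CommRingCat.of R ⟶ c.ring :=
  c.lift (CommRingCat.ofHom (algebraMap R R') ≫ Sec.co E.x c.U)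
    (CommRingCat.ofHom (algebraMap R K) ≫ Sec.co E.a c.V) (by
      rw [Category.assoc, Category.assoc, co_fU, co_fV, ← Category.assoc, ofHom_comp (K := K),
        Category.assoc])

theorem fromR_toU : c.fromR ≫ c.toU = CommRingCat.ofHom (algebraMap R R') ≫ Sec.co E.x c.U := rfl

theorem fromR_toV : c.fromR ≫ c.toV = CommRingCat.ofHom (algebraMap R K) ≫ Sec.co E.a c.V := rfl

theorem fromR_res {c c' : Chart L} (h : c ≤ c') : c'.fromR ≫ res h = c.fromR := by
  apply ring_hom_ext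
  · rw [Category.assoc, res_toU, ← Category.assoc, fromR_toU, fromR_toU, Category.assoc,
      Sec.co_map]
  · rw [Category.assoc, res_toV, ← Category.assoc, fromR_toV, fromR_toV, Category.assoc,
      Sec.co_map]

/-- The action on the functions on the generic fibre. -/
noncomputable def s (σ : R' ≃ₐ[R] R') : Γ(E.P, E.p ⁻¹ᵁ c.V) ⟶ Γ(E.P, E.p ⁻¹ᵁ c.V) :=
  (L σ).ψ.appLE _ _ (by
    rw [← Scheme.Hom.comp_preimage, (L σ).hp])

/-- The action on the functions on the chart. -/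
noncomputable def t (σ : R' ≃ₐ[R] R') : Γ(E.X, c.U) ⟶ Γ(E.X, c.U) :=
  (L σ).φ.appLE _ _ (c.stable σ)

theorem fV_s (σ : R' ≃ₐ[R] R') : c.fV ≫ c.s σ = c.fV := by
  rw [fV, s, Scheme.Hom.appLE_comp_appLE]
  simp only [(L σ).hp]

theorem fU_s (σ : R' ≃ₐ[R] R') : c.fU ≫ c.s σ = c.t σ ≫ c.fU := by
  rw [fU, s, t, Scheme.Hom.appLE_comp_appLE, Scheme.Hom.appLE_comp_appLE]
  simp only [(L σ).hψ]

theorem co_s (σ : R' ≃ₐ[R] R') :
    CommRingCat.ofHom (algebraMap R' K') ≫ Sec.co E.b (E.p ⁻¹ᵁ c.V) ≫ c.s σ =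
      CommRingCat.ofHom (σ : R' →+* R') ≫ CommRingCat.ofHom (algebraMap R' K') ≫
        Sec.co E.b (E.p ⁻¹ᵁ c.V) := by
  rw [← Category.assoc, ← co_fU, Category.assoc, fU_s, ← Category.assoc]
  have h : Sec.co E.x c.U ≫ c.t σ = CommRingCat.ofHom (σ : R' →+* R') ≫ Sec.co E.x c.U :=
    Sec.co_appLE E.x E.x (L σ).hφ _
  rw [h, Category.assoc, co_fU]

theorem smooth_co [Smooth E.x] : (Sec.co E.x c.U).hom.Smooth := by
  have h1 : (E.x.appLE ⊤ c.U le_top).hom.Smooth :=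
    HasRingHomProperty.appLE @Smooth E.x inferInstance ⟨⊤, isAffineOpen_top _⟩ ⟨c.U, c.hU⟩ le_top
  have h2 : Function.Bijective (Scheme.ΓSpecIso (CommRingCat.of R')).inv.hom :=
    ConcreteCategory.bijective_of_isIso (Scheme.ΓSpecIso (CommRingCat.of R')).inv
  exact (RingHom.Smooth.of_bijective h2).comp h1

theorem flat_co [Smooth E.x] : (Sec.co E.x c.U).hom.Flat := by
  have h : (Sec.co E.x c.U).hom.Smooth := c.smooth_co
  algebraize [(Sec.co E.x c.U).hom]
  exact (inferInstance : Module.Flat R' Γ(E.X, c.U))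

theorem isPushout_U : IsPushout (Sec.co E.x c.U) (CommRingCat.ofHom (algebraMap R' K')) c.fU
    (Sec.co E.b (E.p ⁻¹ᵁ c.V)) :=
  (Sec.isPushout_co E.x E.b E.hX c.hU c.hUV).flip

theorem isPushout_V : IsPushout (Sec.co E.a c.V) (CommRingCat.ofHom (algebraMap K K')) c.fV
    (Sec.co E.b (E.p ⁻¹ᵁ c.V)) :=
  (Sec.isPushout_co E.a E.b E.hA c.hV rfl).flip

variable [IsIntegral E.X] [Smooth E.x]

instance : IsDomain Γ(E.X, c.U) := by
  have : Nonempty c.U := c.ne.to_subtype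
  infer_instance

/-- `U ⟶ Spec C`. -/
noncomputable def α₁ : c.U.toScheme ⟶ Spec c.ring := c.U.toSpecΓ ≫ Spec.map c.toU

/-- `V ⟶ Spec C`. -/
noncomputable def α₂ : c.V.toScheme ⟶ Spec c.ring := c.V.toSpecΓ ≫ Spec.map c.toV

theorem isPullback_α₁ (hunif : ∀ ϖ : R, Irreducible ϖ → Irreducible (algebraMap R R' ϖ))
    (hfix : LD.FixedRes R R') (hR' : EtCoh.IsStrictlyHenselianLocalRing R') :
    IsPullback c.α₁ (c.U.ι ≫ E.x) (Spec.map c.fromR) (Spec.map (CommRingCat.ofHom (algebraMap R R'))) := by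
  apply Sec.isPullback_of_isPushout E.x _ _ c.hU
  exact ChartCat.isPushout_fst (Sec.co E.x c.U) (Sec.co E.a c.V) (Sec.co E.b (E.p ⁻¹ᵁ c.V)) c.fU c.fV
    hunif hfix hR' c.smooth_co c.isPushout_U c.isPushout_V c.s c.co_s c.fV_s c.t c.fU_s c.fromR
    c.fromR_toU c.fromR_toV

theorem isPullback_α₂ (hunif : ∀ ϖ : R, Irreducible ϖ → Irreducible (algebraMap R R' ϖ)) :
    IsPullback c.α₂ (c.V.ι ≫ E.a) (Spec.map c.fromR) (Spec.map (CommRingCat.ofHom (algebraMap R K))) := by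
  apply Sec.isPullback_of_isPushout E.a _ _ c.hV
  exact ChartCat.isPushout_snd (Sec.co E.x c.U) (Sec.co E.a c.V) (Sec.co E.b (E.p ⁻¹ᵁ c.V)) c.fU c.fV
    hunif c.flat_co c.isPushout_U c.isPushout_V c.fromR c.fromR_toU c.fromR_toV

/-- The intersection of two charts. -/
def inf [IsSeparated E.x] [IsSeparated E.a] (c c' : Chart L) (h : ((c.U ⊓ c'.U : E.X.Opens) : Set E.X).Nonempty) :
    Chart L where
  U := c.U ⊓ c'.U
  V := c.V ⊓ c'.V
  hU := isAffineHom_diagonal_iff.mp (inferInstance : IsAffineHom (pullback.diagonal E.x)) ⊤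
    (isAffineOpen_top _) c.U le_top c'.U le_top c.hU c'.hU
  hV := isAffineHom_diagonal_iff.mp (inferInstance : IsAffineHom (pullback.diagonal E.a)) ⊤
    (isAffineOpen_top _) c.V le_top c'.V le_top c.hV c'.hV
  ne := h
  hUV := by
    rw [Scheme.Hom.preimage_inf, Scheme.Hom.preimage_inf, c.hUV, c'.hUV]
  stable σ := by
    rw [Scheme.Hom.preimage_inf]
    exact inf_le_inf (c.stable σ) (c'.stable σ)

section covers

variable [IsSeparated E.x] [IsSeparated E.a]

variable (L) in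
/-- The covering of `X`. -/
noncomputable def cov₁ (hcov : ∀ y : E.X, ∃ c : Chart L, y ∈ c.U) : DirGlue.DirCover E.X (Chart L) where
  G :=
    { obj := fun c => c.U.toScheme
      map := fun f => E.X.homOfLE f.le.1
      map_id := fun c => E.X.homOfLE_rfl _
      map_comp := fun f g => (E.X.homOfLE_homOfLE _ _).symm }
  g c := c.U.ι
  w f := E.X.homOfLE_ι f.le.1
  op c := inferInstance
  surj y := by
    obtain ⟨c, hc⟩ := hcov y
    exact ⟨c, ⟨y, hc⟩, rfl⟩
  dir c c' y y' h := by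
    have h' : y.1 = y'.1 := h
    have hy : y.1 ∈ c.U ⊓ c'.U := ⟨y.2, by rw [h']; exact y'.2⟩
    refine ⟨inf c c' ⟨y.1, hy⟩, homOfLE ⟨inf_le_left, inf_le_left⟩, homOfLE ⟨inf_le_right, inf_le_right⟩,
      ⟨y.1, hy⟩, ?_, ?_⟩
    · apply c.U.ι.injective
      refine (Scheme.Hom.comp_apply _ _ _).symm.trans ?_
      exact congr($(E.X.homOfLE_ι (inf_le_left : c.U ⊓ c'.U ≤ c.U)) ⟨y.1, hy⟩)
    · apply c'.U.ι.injective
      refine (Scheme.Hom.comp_apply _ _ _).symm.trans ?_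
      exact congr($(E.X.homOfLE_ι (inf_le_right : c.U ⊓ c'.U ≤ c'.U)) ⟨y.1, hy⟩) |>.trans h'

theorem isOpenImmersion_j : IsOpenImmersion E.j :=
  MorphismProperty.of_isPullback (P := @IsOpenImmersion) E.hX.flip (isOpenImmersion_Spec R' K')

theorem surjective_p : Surjective E.p := by
  have : Surjective (Spec.map (CommRingCat.ofHom (algebraMap K K'))) := by
    refine ⟨fun y => ⟨default, Subsingleton.elim (α := PrimeSpectrum K) _ _⟩⟩
  exact MorphismProperty.of_isPullback (P := @Surjective) E.hA.flip this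

theorem isAffineHom_p : IsAffineHom E.p :=
  MorphismProperty.of_isPullback (P := @IsAffineHom) E.hA.flip inferInstance

variable (L) in
theorem exists_mem_V (y : E.A) : ∃ c : Chart L, y ∈ c.V := by
  have := isOpenImmersion_j (E := E)
  have := surjective_p (E := E)
  have := isAffineHom_p (E := E)
  obtain ⟨V, hV, hyV, -⟩ := exists_isAffineOpen_mem_and_subset (U := (⊤ : E.A.Opens))
    (show y ∈ (⊤ : E.A.Opens) from trivial)
  obtain ⟨w, hw⟩ := E.p.surjective y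
  refine ⟨⟨E.j ''ᵁ (E.p ⁻¹ᵁ V), V, ?_, hV, ⟨E.j w, w, ?_, rfl⟩, ?_, ?_⟩, hyV⟩
  · exact (hV.preimage E.p).image_of_isOpenImmersion E.j
  · change E.p w ∈ V
    rw [hw]
    exact hyV
  · exact (E.j.preimage_image_eq _).symm
  · rintro σ _ ⟨w', hw', rfl⟩
    change (L σ).φ (E.j w') ∈ E.j ''ᵁ (E.p ⁻¹ᵁ V)
    rw [← Scheme.Hom.comp_apply, (L σ).hψ, Scheme.Hom.comp_apply]
    refine ⟨(L σ).ψ w', ?_, rfl⟩
    change E.p ((L σ).ψ w') ∈ V
    rw [← Scheme.Hom.comp_apply, (L σ).hp]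
    exact hw'

variable (L) in
/-- The covering of `A`. -/
noncomputable def cov₂ : DirGlue.DirCover E.A (Chart L) where
  G :=
    { obj := fun c => c.V.toScheme
      map := fun f => E.A.homOfLE f.le.2
      map_id := fun c => E.A.homOfLE_rfl _
      map_comp := fun f g => (E.A.homOfLE_homOfLE _ _).symm }
  g c := c.V.ι
  w f := E.A.homOfLE_ι f.le.2
  op c := inferInstance
  surj y := by
    obtain ⟨c, hc⟩ := exists_mem_V L y
    exact ⟨c, ⟨y, hc⟩, rfl⟩
  dir c c' y y' h := by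
    have h' : y.1 = y'.1 := h
    have hy : y.1 ∈ c.V ⊓ c'.V := ⟨y.2, by rw [h']; exact y'.2⟩
    have := surjective_p (E := E)
    obtain ⟨w, hw⟩ := E.p.surjective y.1
    have hw1 : w ∈ E.j ⁻¹ᵁ c.U := by
      rw [← c.hUV]
      change E.p w ∈ c.V
      rw [hw]
      exact hy.1
    have hw2 : w ∈ E.j ⁻¹ᵁ c'.U := by
      rw [← c'.hUV]
      change E.p w ∈ c'.V
      rw [hw]
      exact hy.2
    refine ⟨inf c c' ⟨E.j w, hw1, hw2⟩, homOfLE ⟨inf_le_left, inf_le_left⟩,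
      homOfLE ⟨inf_le_right, inf_le_right⟩, ⟨y.1, hy⟩, ?_, ?_⟩
    · apply c.V.ι.injective
      refine (Scheme.Hom.comp_apply _ _ _).symm.trans ?_
      exact congr($(E.A.homOfLE_ι (inf_le_left : c.V ⊓ c'.V ≤ c.V)) ⟨y.1, hy⟩)
    · apply c'.V.ι.injective
      refine (Scheme.Hom.comp_apply _ _ _).symm.trans ?_
      exact congr($(E.A.homOfLE_ι (inf_le_right : c.V ⊓ c'.V ≤ c'.V)) ⟨y.1, hy⟩) |>.trans h'

end covers

theorem homOfLE_α₁ {c c' : Chart L} (h : c ≤ c') :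
    E.X.homOfLE h.1 ≫ c'.α₁ = c.α₁ ≫ Spec.map (res h) := by
  rw [α₁, α₁, Category.assoc, ← Spec.map_comp, res_toU, Spec.map_comp,
    Scheme.Opens.toSpecΓ_SpecMap_presheaf_map_assoc]

theorem homOfLE_α₂ {c c' : Chart L} (h : c ≤ c') :
    E.A.homOfLE h.2 ≫ c'.α₂ = c.α₂ ≫ Spec.map (res h) := by
  rw [α₂, α₂, Category.assoc, ← Spec.map_comp, res_toV, Spec.map_comp,
    Scheme.Opens.toSpecΓ_SpecMap_presheaf_map_assoc]

theorem resLE_α : E.j.resLE c.U (E.p ⁻¹ᵁ c.V) c.hUV.le ≫ c.α₁ = E.p.resLE c.V (E.p ⁻¹ᵁ c.V) le_rfl ≫ c.α₂ := by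
  rw [α₁, α₂, ← Scheme.Opens.toSpecΓ_SpecMap_appLE_assoc, ← Scheme.Opens.toSpecΓ_SpecMap_appLE_assoc,
    ← Spec.map_comp, ← Spec.map_comp]
  congr 2
  exact c.toU_fU

end Chart

open Chart

/-- **Descent of a scheme with an action of `Aut(R'/R)` covered by stable affine charts.** -/
theorem exists_descent (hunif : ∀ ϖ : R, Irreducible ϖ → Irreducible (algebraMap R R' ϖ))
    (hfix : LD.FixedRes R R') (hR' : EtCoh.IsStrictlyHenselianLocalRing R')
    [IsIntegral E.X] [Smooth E.x] [IsSeparated E.x] [IsSeparated E.a]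
    (L : ∀ σ : R' ≃ₐ[R] R', E.Lift σ) (hcov : ∀ y : E.X, ∃ c : Chart L, y ∈ c.U) :
    ∃ (Y : Scheme.{u}) (y : Y ⟶ Spec (CommRingCat.of R)) (f : E.X ⟶ Y) (g : E.A ⟶ Y),
      IsPullback f E.x y (Spec.map (CommRingCat.ofHom (algebraMap R R'))) ∧
      IsPullback g E.a y (Spec.map (CommRingCat.ofHom (algebraMap R K))) ∧ E.j ≫ f = E.p ≫ g := by
  have hff : Module.FaithfullyFlat R R' := LD.faithfullyFlat hunif
  have hflat : Flat (Spec.map (CommRingCat.ofHom (algebraMap R R'))) := by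
    rw [HasRingHomProperty.Spec_iff (P := @Flat)]
    exact (RingHom.flat_algebraMap_iff).mpr inferInstance
  have hsurj : Surjective (Spec.map (CommRingCat.ofHom (algebraMap R R'))) := by
    refine ⟨fun y => ?_⟩
    exact PrimeSpectrum.comap_surjective_of_faithfullyFlat y
  let α₁ : (cov₁ L hcov).G ⟶ diag L :=
    { app := fun c => c.α₁
      naturality := fun c c' f => homOfLE_α₁ f.le }
  let α₂ : (cov₂ L).G ⟶ diag L :=
    { app := fun c => c.α₂
      naturality := fun c c' f => homOfLE_α₂ f.le }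
  obtain ⟨Y, y, f, g, ι, h1, h2, h3, h4, h5, h6, h7, h8⟩ := DirGlue.exists_glue
    (Spec.map (CommRingCat.ofHom (algebraMap R R'))) (Spec.map (CommRingCat.ofHom (algebraMap R K)))
    E.x E.a (cov₁ L hcov) (cov₂ L) (diag L) (fun c => Spec.map c.fromR) (fun {c c'} f => by
      change Spec.map (res f.le) ≫ Spec.map c'.fromR = Spec.map c.fromR
      rw [← Spec.map_comp, fromR_res]) α₁ (fun c => c.isPullback_α₁ hunif hfix hR') α₂
    (fun c => c.isPullback_α₂ hunif)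
  refine ⟨Y, y, f, g, h7, h8, ?_⟩
  refine Scheme.Cover.hom_ext (E.P.openCoverOfIsOpenCover (fun c : Chart L => E.p ⁻¹ᵁ c.V) ?_) _ _
    (fun c => ?_)
  · refine TopologicalSpace.IsOpenCover.mk (top_le_iff.mp fun w _ => ?_)
    obtain ⟨c, hc⟩ := exists_mem_V L (E.p w)
    exact TopologicalSpace.Opens.mem_iSup.mpr ⟨c, hc⟩
  · change (E.p ⁻¹ᵁ c.V).ι ≫ E.j ≫ f = (E.p ⁻¹ᵁ c.V).ι ≫ E.p ≫ g
    have e1 : (E.p ⁻¹ᵁ c.V).ι ≫ E.j = E.j.resLE c.U (E.p ⁻¹ᵁ c.V) c.hUV.le ≫ c.U.ι :=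
      (Scheme.Hom.resLE_comp_ι _ _).symm
    have e2 : (E.p ⁻¹ᵁ c.V).ι ≫ E.p = E.p.resLE c.V (E.p ⁻¹ᵁ c.V) le_rfl ≫ c.V.ι :=
      (Scheme.Hom.resLE_comp_ι _ _).symm
    rw [reassoc_of% e1, reassoc_of% e2]
    have e3 : c.U.ι ≫ f = c.α₁ ≫ ι c := h5 c
    have e4 : c.V.ι ≫ g = c.α₂ ≫ ι c := h6 c
    rw [e3, e4, ← Category.assoc, ← Category.assoc, resLE_α]

end Data

end Groth.Agent.Sga7.H331
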