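import Mathlib.RingTheory.DiscreteValuationRing.Basic
import Mathlib.RingTheory.IsTensorProduct
import Mathlib.LinearAlgebra.FreeModule.PID
import Mathlib.RingTheory.Localization.FractionRing
import Mathlib.LinearAlgebra.Dimension.Localization
import Mathlib.RingTheory.Flat.Localization
import Mathlib.RingTheory.Flat.TorsionFree
import Mathlib.RingTheory.Flat.FaithfullyFlat.Basic
import Mathlib.RingTheory.RingHom.FaithfullyFlat
import Mathlib.RingTheory.Localization.BaseChange
import Mathlib.RingTheory.Finiteness.Descent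

/-!
# Descent of lattices from `R'` to `R` along the group `Aut(R'/R)`

`R → R'` discrete valuation rings with a common uniformizer, such that the elements of the residue field of `R'`
fixed by `Aut(R'/R)` come from `R`. `D` a `K`-vector space, `D' = K' ⊗_K D`, `B' ⊆ D'` an `R'`-submodule stable under
`Aut(R'/R)` with finitely generated intersections with finite-dimensional subspaces. Then `B'` is generated by
`B' ∩ D`.
-/

set_option autoImplicit false

universe u

namespace Groth.Agent.Sga7.H331.LD

open IsLocalRing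

section

/-- The elements of the residue field of `R'` fixed by `Aut(R'/R)` come from `R`. -/
def FixedRes (R R' : Type*) [CommRing R] [CommRing R'] [IsLocalRing R'] [Algebra R R'] : Prop :=
  ∀ z : R', (∀ σ : R' ≃ₐ[R] R', σ z - z ∈ maximalIdeal R') →
    ∃ r : R, z - algebraMap R R' r ∈ maximalIdeal R'

variable {R R' : Type*} [CommRing R] [CommRing R'] [IsLocalRing R'] [Algebra R R']

/-- Artin's independence argument modulo the uniformizer. -/
theorem mem_of_sum_mem (hfix : FixedRes R R') {M : Type*} [AddCommGroup M] [Module R' M]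
    (P : Submodule R' M)
    (s : (R' ≃ₐ[R] R') → M →+ M) (hs : ∀ σ (b : R') (x : M), s σ (b • x) = σ b • s σ x)
    (hsP : ∀ σ, ∀ x ∈ P, s σ x ∈ P)
    {ι : Type*} [Fintype ι] (m : ι → M) (hm : ∀ σ i, s σ (m i) = m i)
    (hP : ∀ b ∈ maximalIdeal R', ∀ i, b • m i ∈ P)
    (hind : ∀ r : ι → R, ∑ i, algebraMap R R' (r i) • m i ∈ P →
      ∀ i, algebraMap R R' (r i) ∈ maximalIdeal R')
    (z : ι → R') (hz : ∑ i, z i • m i ∈ P) (i : ι) : z i ∈ maximalIdeal R' := by
  classical
  suffices H : ∀ (n : ℕ) (z : ι → R'), (Finset.univ.filter (fun i => z i ∉ maximalIdeal R')).card ≤ n →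
      ∑ i, z i • m i ∈ P → ∀ i, z i ∈ maximalIdeal R' from H _ z le_rfl hz i
  intro n
  induction n with
  | zero =>
    intro z hn _ i
    by_contra hi
    have : i ∈ Finset.univ.filter (fun i => z i ∉ maximalIdeal R') := by simpa using hi
    rw [Finset.card_eq_zero.mp (Nat.le_zero.mp hn)] at this
    exact absurd this (Finset.notMem_empty i)
  | succ n ih =>
    intro z hn hz i
    by_contra hi
    have hu : IsUnit (z i) := by
      by_contra h
      exact hi ((mem_maximalIdeal _).mpr h)
    obtain ⟨u, hu⟩ := hu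
    let w : ι → R' := fun k => ↑u⁻¹ * z k
    have hwi : w i = 1 := by simp [w, ← hu]
    have hw : ∑ k, w k • m k ∈ P := by
      have : ∑ k, w k • m k = (↑u⁻¹ : R') • ∑ k, z k • m k := by
        rw [Finset.smul_sum]
        exact Finset.sum_congr rfl fun k _ => by rw [smul_smul]
      rw [this]
      exact P.smul_mem _ hz
    have hwz : ∀ k, w k ∉ maximalIdeal R' → z k ∉ maximalIdeal R' := fun k hk hk' =>
      hk (Ideal.mul_mem_left _ _ hk')
    have hfixw : ∀ k (σ : R' ≃ₐ[R] R'), σ (w k) - w k ∈ maximalIdeal R' := by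
      intro k σ
      refine ih (fun k => σ (w k) - w k) ?_ ?_ k
      · have hsub : (Finset.univ.filter (fun k => σ (w k) - w k ∉ maximalIdeal R')) ⊆
            (Finset.univ.filter (fun k => z k ∉ maximalIdeal R')).erase i := by
          intro k hk
          rw [Finset.mem_filter] at hk
          rw [Finset.mem_erase, Finset.mem_filter]
          refine ⟨?_, Finset.mem_univ _, ?_⟩
          · rintro rfl
            apply hk.2
            rw [hwi, map_one, sub_self]
            exact zero_mem _
          · intro hzk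
            apply hk.2
            have h1 : w k ∈ maximalIdeal R' := Ideal.mul_mem_left _ _ hzk
            refine sub_mem ?_ h1
            rw [mem_maximalIdeal, mem_nonunits_iff] at h1 ⊢
            intro h2
            apply h1
            have h3 := h2.map (σ.symm : R' →+* R')
            simpa using h3
        have h1 := Finset.card_le_card hsub
        have hmem : i ∈ Finset.univ.filter (fun k => z k ∉ maximalIdeal R') := by simpa using hi
        rw [Finset.card_erase_of_mem hmem] at h1
        omega
      · have h1 : ∑ k, (σ (w k) - w k) • m k = s σ (∑ k, w k • m k) - ∑ k, w k • m k := by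
          rw [map_sum, ← Finset.sum_sub_distrib]
          exact Finset.sum_congr rfl fun k _ => by rw [hs, hm, sub_smul]
        rw [h1]
        exact P.sub_mem (hsP σ _ hw) hw
    choose r hr using fun k => hfix (w k) (hfixw k)
    have h1 : ∑ k, algebraMap R R' (r k) • m k ∈ P := by
      have h2 : ∑ k, algebraMap R R' (r k) • m k = ∑ k, w k • m k -
          ∑ k, (w k - algebraMap R R' (r k)) • m k := by
        rw [← Finset.sum_sub_distrib]
        exact Finset.sum_congr rfl fun k _ => by rw [sub_smul]; abel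
      rw [h2]
      exact P.sub_mem hw (P.sum_mem fun k _ => hP _ (hr k) _)
    have h2 := hind r h1 i
    have h3 := hr i
    rw [hwi] at h3
    have h4 : (1 : R') ∈ maximalIdeal R' := by
      have h5 := add_mem h3 h2
      rwa [sub_add_cancel] at h5
    exact (Ideal.ne_top_iff_one _).mp (maximalIdeal.isMaximal R').ne_top h4

end

section

variable {R R' K K' : Type u} [CommRing R] [IsDomain R] [IsDiscreteValuationRing R]
  [CommRing R'] [IsDomain R'] [IsDiscreteValuationRing R'] [Algebra R R']
  [Field K] [Algebra R K] [IsFractionRing R K] [Field K'] [Algebra R' K'] [IsFractionRing R' K']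
  [Algebra K K'] [Algebra R K'] [IsScalarTower R K K'] [IsScalarTower R R' K']

theorem faithfullyFlat (hunif : ∀ ϖ : R, Irreducible ϖ → Irreducible (algebraMap R R' ϖ)) :
    Module.FaithfullyFlat R R' := by
  obtain ⟨ϖ, hϖ⟩ := IsDiscreteValuationRing.exists_irreducible R
  have hinj : Function.Injective (algebraMap R R') := by
    rw [injective_iff_map_eq_zero]
    intro r hr
    by_contra hr0
    obtain ⟨n, u, rfl⟩ := IsDiscreteValuationRing.eq_unit_mul_pow_irreducible hr0 hϖ
    rw [map_mul, map_pow] at hr
    rcases mul_eq_zero.mp hr with h | h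
    · exact (u.isUnit.map (algebraMap R R')).ne_zero h
    · exact pow_ne_zero n (hunif ϖ hϖ).ne_zero h
  have : FaithfulSMul R R' := (faithfulSMul_iff_algebraMap_injective R R').mpr hinj
  have : Module.IsTorsionFree R R' := inferInstance
  have : IsLocalHom (algebraMap R R') := by
    refine ((IsLocalRing.local_hom_TFAE (algebraMap R R')).out 0 2).mpr ?_
    rw [hϖ.maximalIdeal_eq, (hunif ϖ hϖ).maximalIdeal_eq, Ideal.map_span, Set.image_singleton]
  exact Module.FaithfullyFlat.of_flat_of_isLocalHom

theorem isPushout (hunif : ∀ ϖ : R, Irreducible ϖ → Irreducible (algebraMap R R' ϖ)) :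
    Algebra.IsPushout R R' K K' := by
  obtain ⟨ϖ, hϖ⟩ := IsDiscreteValuationRing.exists_irreducible R
  have h1 : ∀ (A L : Type u) [CommRing A] [IsDomain A] [IsDiscreteValuationRing A] [Field L]
      [Algebra A L] [IsFractionRing A L] (t : A), Irreducible t →
      IsLocalization (Submonoid.powers t) L := by
    intro A L _ _ _ _ _ _ t ht
    refine (IsLocalization.iff_of_le_of_exists_dvd (M := Submonoid.powers t) (S := L)
      (nonZeroDivisors A) ?_ ?_).2 inferInstance
    · rw [Submonoid.powers_le]
      exact mem_nonZeroDivisors_of_ne_zero ht.ne_zero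
    · intro n hn
      obtain ⟨k, hk⟩ := IsDiscreteValuationRing.associated_pow_irreducible
        (nonZeroDivisors.ne_zero hn) ht
      exact ⟨t ^ k, ⟨k, rfl⟩, hk.dvd⟩
  have : IsLocalization (Submonoid.powers ϖ) K := h1 R K ϖ hϖ
  have : IsLocalization (Algebra.algebraMapSubmonoid R' (Submonoid.powers ϖ)) K' := by
    have h2 : Algebra.algebraMapSubmonoid R' (Submonoid.powers ϖ) =
        Submonoid.powers (algebraMap R R' ϖ) := by
      simp [Algebra.algebraMapSubmonoid, Submonoid.map_powers]
    rw [h2]
    exact h1 R' K' _ (hunif ϖ hϖ)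
  exact Algebra.isPushout_of_isLocalization (Submonoid.powers ϖ) _ _ _

open TensorProduct

variable {D D' : Type u} [AddCommGroup D] [Module K D] [Module R D] [IsScalarTower R K D]
  [AddCommGroup D'] [Module K' D'] [Module R' D'] [IsScalarTower R' K' D'] [Module K D']
  [IsScalarTower K K' D'] [Module R D'] [IsScalarTower R R' D'] [IsScalarTower R K D']

omit [IsDomain R] [IsDiscreteValuationRing R] [IsDomain R'] [IsDiscreteValuationRing R']
  [IsFractionRing R K] [IsFractionRing R' K'] in
theorem isBaseChange (hpo : Algebra.IsPushout R R' K K') (ι : D →ₗ[K] D') (hι : IsBaseChange K' ι) :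
    IsBaseChange R' (ι.restrictScalars R) := by
  let e : R' ⊗[R] D ≃ₗ[R'] D' :=
    (Algebra.IsPushout.cancelBaseChange R R' K K' D).symm ≪≫ₗ (hι.equiv.restrictScalars R')
  refine IsBaseChange.of_equiv e fun x => ?_
  simp [e, hι.equiv_tmul]

end

section tmap

open TensorProduct

variable {R R' D D' : Type*} [CommRing R] [CommRing R'] [Algebra R R'] [AddCommGroup D] [Module R D]
  [AddCommGroup D'] [Module R' D'] [Module R D'] [IsScalarTower R R' D'] {ι : D →ₗ[R] D'}
  (hb : IsBaseChange R' ι) (M : Submodule R D)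

/-- For a submodule `M` of `D`, the map `R' ⊗_R M → D'`. -/
noncomputable def tmap : R' ⊗[R] M →ₗ[R'] D' :=
  hb.equiv.toLinearMap ∘ₗ M.subtype.baseChange R'

theorem tmap_tmul (r : R') (m : M) : tmap hb M (r ⊗ₜ m) = r • ι m := by
  simp [tmap, hb.equiv_tmul]

theorem tmap_injective [Module.Flat R R'] : Function.Injective (tmap hb M) := by
  refine hb.equiv.injective.comp ?_
  exact Module.Flat.lTensor_preserves_injective_linearMap M.subtype M.subtype_injective

theorem range_tmap : LinearMap.range (tmap hb M) = Submodule.span R' (ι '' (M : Set D)) := by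
  apply le_antisymm
  · rintro _ ⟨x, rfl⟩
    induction x with
    | zero => rw [map_zero]; exact zero_mem _
    | add x y hx hy => rw [map_add]; exact add_mem hx hy
    | tmul r m =>
      rw [tmap_tmul]
      exact Submodule.smul_mem _ _ (Submodule.subset_span ⟨m, m.2, rfl⟩)
  · rw [Submodule.span_le]
    rintro _ ⟨m, hm, rfl⟩
    exact ⟨1 ⊗ₜ ⟨m, hm⟩, by rw [tmap_tmul, one_smul]⟩

include hb in
theorem finite_of_le [IsNoetherianRing R'] [Module.FaithfullyFlat R R'] (E : Submodule R' D')
    (hE : E.FG) (h : ∀ m ∈ M, ι m ∈ E) : Module.Finite R M := by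
  have hfin : Module.Finite R' E := Module.Finite.iff_fg.mpr hE
  have hr : ∀ x, tmap hb M x ∈ E := by
    intro x
    have h1 : tmap hb M x ∈ Submodule.span R' (ι '' (M : Set D)) := by
      rw [← range_tmap hb M]
      exact ⟨x, rfl⟩
    refine (Submodule.span_le.mpr ?_) h1
    rintro _ ⟨m, hm, rfl⟩
    exact h m hm
  have : Module.Finite R' (R' ⊗[R] M) := by
    refine Module.Finite.of_injective ((tmap hb M).codRestrict E hr) (fun a b hab => ?_)
    apply tmap_injective hb M
    have h1 : ((tmap hb M).codRestrict E hr a : D') = ((tmap hb M).codRestrict E hr b : D') := by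
      rw [hab]
    exact h1
  exact Module.Finite.of_finite_tensorProduct_of_faithfullyFlat R'

end tmap

section main

open TensorProduct

variable {R R' K K' : Type u} [CommRing R] [IsDomain R] [IsDiscreteValuationRing R]
  [CommRing R'] [IsDomain R'] [IsDiscreteValuationRing R'] [Algebra R R']
  [Field K] [Algebra R K] [IsFractionRing R K] [Field K'] [Algebra R' K'] [IsFractionRing R' K']
  [Algebra K K'] [Algebra R K'] [IsScalarTower R K K'] [IsScalarTower R R' K']
  {D D' : Type u} [AddCommGroup D] [Module K D] [Module R D] [IsScalarTower R K D]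
  [AddCommGroup D'] [Module K' D'] [Module R' D'] [IsScalarTower R' K' D'] [Module K D']
  [IsScalarTower K K' D'] [Module R D'] [IsScalarTower R R' D'] [IsScalarTower R K D']

/-- **Descent of lattices.** -/
theorem mem_span (hunif : ∀ ϖ : R, Irreducible ϖ → Irreducible (algebraMap R R' ϖ))
    (hfix : FixedRes R R') (ι : D →ₗ[K] D') (hι : IsBaseChange K' ι) (B : Submodule R' D')
    (s : (R' ≃ₐ[R] R') → D' →+ D') (hs : ∀ σ (b : R') (x : D'), s σ (b • x) = σ b • s σ x)
    (hsι : ∀ σ d, s σ (ι d) = ι d) (hsB : ∀ σ, ∀ x ∈ B, s σ x ∈ B)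
    (hK : ∀ d : D, ∃ r : R, r ≠ 0 ∧ ι (r • d) ∈ B)
    (hbd : ∀ t : Finset D, (B ⊓ (Submodule.span K' (ι '' (t : Set D))).restrictScalars R').FG)
    (x : D') (hx : x ∈ B) : x ∈ Submodule.span R' ((B : Set D') ∩ Set.range ι) := by
  classical
  obtain ⟨ϖ, hϖ⟩ := IsDiscreteValuationRing.exists_irreducible R
  have hϖ' := hunif ϖ hϖ
  have hff : Module.FaithfullyFlat R R' := faithfullyFlat hunif
  have hpo : Algebra.IsPushout R R' K K' := isPushout hunif
  have hb := isBaseChange hpo ι hι
  -- finitely many vectors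
  obtain ⟨t, ht⟩ : ∃ t : Finset D, x ∈ Submodule.span K' (ι '' (t : Set D)) := by
    obtain ⟨y, rfl⟩ := hι.equiv.surjective x
    clear hx
    induction y with
    | zero => exact ⟨∅, by rw [map_zero]; exact zero_mem _⟩
    | tmul a d =>
      refine ⟨{d}, ?_⟩
      rw [hι.equiv_tmul]
      exact Submodule.smul_mem _ _ (Submodule.subset_span ⟨d, by simp, rfl⟩)
    | add y z hy hz =>
      obtain ⟨t₁, h₁⟩ := hy
      obtain ⟨t₂, h₂⟩ := hz
      refine ⟨t₁ ∪ t₂, ?_⟩
      rw [map_add]
      exact add_mem
        (Submodule.span_mono (Set.image_mono (by simp)) h₁)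
        (Submodule.span_mono (Set.image_mono (by simp)) h₂)
  let U : Submodule K D := Submodule.span K (t : Set D)
  let M : Submodule R D :=
    { carrier := {d | d ∈ U ∧ ι d ∈ B}
      add_mem' := fun {a b} ha hb => ⟨add_mem ha.1 hb.1, by rw [map_add]; exact add_mem ha.2 hb.2⟩
      zero_mem' := ⟨zero_mem _, by rw [map_zero]; exact zero_mem _⟩
      smul_mem' := fun r a ha => ⟨by
        rw [← algebraMap_smul K r a]
        exact U.smul_mem _ ha.1, by
        rw [LinearMap.map_smul_of_tower, ← algebraMap_smul R' r (ι a)]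
        exact B.smul_mem _ ha.2⟩ }
  have hιU : ∀ d ∈ U, ι d ∈ Submodule.span K' (ι '' (t : Set D)) := by
    intro d hd
    induction hd using Submodule.span_induction with
    | mem d hd => exact Submodule.subset_span ⟨d, hd, rfl⟩
    | zero => rw [map_zero]; exact zero_mem _
    | add a b _ _ ha hb => rw [map_add]; exact add_mem ha hb
    | smul a b _ hb =>
      rw [map_smul, ← algebraMap_smul K' a (ι b)]
      exact Submodule.smul_mem _ _ hb
  have hMfin : Module.Finite R M := finite_of_le hb M _ (hbd t) (fun m hm => ⟨hm.2, hιU m hm.1⟩)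
  have hKK : FaithfulSMul R K :=
    (faithfulSMul_iff_algebraMap_injective R K).mpr (IsFractionRing.injective R K)
  have htfD : Module.IsTorsionFree R D := .trans_faithfulSMul R K D
  have htower : IsScalarTower R K' D' := IsScalarTower.of_algebraMap_smul fun r x => by
    rw [IsScalarTower.algebraMap_apply R R' K', algebraMap_smul, algebraMap_smul]
  have hMfree : Module.Free R M := inferInstance
  let b := Module.Free.chooseBasis R M
  have hspan : x ∈ Submodule.span K' (Set.range fun i => ι (b i : D)) := by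
    refine (Submodule.span_le.mpr ?_) ht
    rintro _ ⟨d, hd, rfl⟩
    obtain ⟨r, hr, hrd⟩ := hK d
    have hrM : r • d ∈ M := ⟨by
      rw [← algebraMap_smul K r d]
      exact U.smul_mem _ (Submodule.subset_span hd), hrd⟩
    have h1 : ι (r • d) ∈ Submodule.span K' (Set.range fun i => ι (b i : D)) := by
      have h2 := b.sum_repr ⟨r • d, hrM⟩
      have h3 : r • d = ∑ i, b.repr ⟨r • d, hrM⟩ i • (b i : D) := by
        calc r • d = ((⟨r • d, hrM⟩ : M) : D) := rfl
          _ = ((∑ i, b.repr ⟨r • d, hrM⟩ i • b i : M) : D) := by rw [h2]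
          _ = _ := by rw [AddSubmonoidClass.coe_finsetSum]; rfl
      rw [h3, map_sum]
      refine Submodule.sum_mem _ fun i _ => ?_
      rw [LinearMap.map_smul_of_tower, ← algebraMap_smul K' (b.repr ⟨r • d, hrM⟩ i) (ι (b i : D))]
      exact Submodule.smul_mem _ _ (Submodule.subset_span ⟨i, rfl⟩)
    have hr' : (algebraMap R K' r) ≠ 0 := by
      rw [IsScalarTower.algebraMap_apply R K K']
      exact (map_ne_zero _).mpr ((map_ne_zero_iff _ (IsFractionRing.injective R K)).mpr hr)
    have h4 : ι d = (algebraMap R K' r)⁻¹ • ι (r • d) := by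
      rw [LinearMap.map_smul_of_tower, ← algebraMap_smul K' r (ι d), smul_smul, inv_mul_cancel₀ hr',
        one_smul]
    rw [h4]
    exact Submodule.smul_mem _ _ h1
  obtain ⟨c, hc⟩ := (Submodule.mem_span_range_iff_exists_fun K').mp hspan
  -- denominators
  set ϖ' : R' := algebraMap R R' ϖ with hϖdef
  have hϖK : algebraMap R' K' ϖ' ≠ 0 :=
    (map_ne_zero_iff _ (IsFractionRing.injective R' K')).mpr hϖ'.ne_zero
  have hden : ∀ y : K', ∃ a : ℕ, ∃ z : R', algebraMap R' K' z = algebraMap R' K' ϖ' ^ a * y := by
    intro y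
    obtain ⟨z, w, hw, rfl⟩ := IsFractionRing.div_surjective (A := R') y
    obtain ⟨n, u, rfl⟩ := IsDiscreteValuationRing.eq_unit_mul_pow_irreducible
      (nonZeroDivisors.ne_zero hw) hϖ'
    refine ⟨n, ↑u⁻¹ * z, ?_⟩
    have hu : algebraMap R' K' (u : R') * algebraMap R' K' (↑u⁻¹ : R') = 1 := by
      rw [← map_mul, Units.mul_inv, map_one]
    have hu0 : algebraMap R' K' (u : R') ≠ 0 := left_ne_zero_of_mul_eq_one hu
    rw [map_mul, map_mul, map_pow, eq_comm, mul_div_assoc', div_eq_iff (mul_ne_zero hu0 (pow_ne_zero _ hϖK))]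
    linear_combination (-(algebraMap R' K' ϖ' ^ n * algebraMap R' K' z)) * hu
  have hex : ∃ a : ℕ, ∀ i, ∃ z : R', algebraMap R' K' z = algebraMap R' K' ϖ' ^ a * c i := by
    choose a z hz using fun i => hden (c i)
    refine ⟨Finset.univ.sup a, fun i => ⟨ϖ' ^ (Finset.univ.sup a - a i) * z i, ?_⟩⟩
    have hle : a i ≤ Finset.univ.sup a := Finset.le_sup (Finset.mem_univ i)
    rw [map_mul, map_pow, hz, ← mul_assoc, ← pow_add, Nat.sub_add_cancel hle]
  obtain ⟨z, hz⟩ := Classical.axiomOfChoice (Nat.find_spec hex)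
  have hmin := fun k hk => Nat.find_min hex (m := k) hk
  set a := Nat.find hex with ha
  have hsum : ∑ i, z i • ι (b i : D) = ϖ' ^ a • x := by
    rw [← hc, Finset.smul_sum]
    refine Finset.sum_congr rfl fun i _ => ?_
    rw [← algebraMap_smul K' (z i), hz, mul_smul, ← map_pow, algebraMap_smul]
  cases hacase : a with
  | zero =>
    rw [hacase, pow_zero, one_smul] at hsum
    rw [← hsum]
    refine Submodule.sum_mem _ fun i _ => Submodule.smul_mem _ _ (Submodule.subset_span ?_)
    exact ⟨(b i).2.2, ⟨_, rfl⟩⟩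
  | succ a' =>
    exfalso
    let P : Submodule R' D' := B.map (LinearMap.lsmul R' D' ϖ')
    have hPmem : ∀ y, y ∈ P ↔ ∃ w ∈ B, ϖ' • w = y := fun y => by
      simp only [P, Submodule.mem_map, LinearMap.lsmul_apply]
    have hσϖ : ∀ σ : R' ≃ₐ[R] R', σ ϖ' = ϖ' := fun σ => σ.commutes ϖ
    have hmem : ∀ i, z i ∈ maximalIdeal R' := by
      refine mem_of_sum_mem hfix P s hs ?_ (fun i => ι (b i : D)) (fun σ i => hsι σ _) ?_ ?_ z ?_
      · intro σ y hy
        obtain ⟨w, hw, rfl⟩ := (hPmem y).mp hy
        rw [hs, hσϖ]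
        exact (hPmem _).mpr ⟨_, hsB σ w hw, rfl⟩
      · intro y hy i
        rw [hϖ'.maximalIdeal_eq, Ideal.mem_span_singleton'] at hy
        obtain ⟨y', rfl⟩ := hy
        rw [mul_comm, mul_smul]
        exact (hPmem _).mpr ⟨_, B.smul_mem _ (b i).2.2, rfl⟩
      · intro r hr i
        obtain ⟨w, hw, hw'⟩ := (hPmem _).mp hr
        -- the element of `M`
        let d : D := ∑ i, r i • (b i : D)
        have hd : ι d = ϖ' • w := by
          rw [hw', map_sum]
          refine Finset.sum_congr rfl fun i _ => ?_
          rw [LinearMap.map_smul_of_tower, algebraMap_smul]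
        let d' : D := (algebraMap R K ϖ)⁻¹ • d
        have hϖ0 : algebraMap R K ϖ ≠ 0 :=
          (map_ne_zero_iff _ (IsFractionRing.injective R K)).mpr hϖ.ne_zero
        have hdd' : ϖ • d' = d := by
          rw [← algebraMap_smul K ϖ d', smul_smul, mul_inv_cancel₀ hϖ0, one_smul]
        have hdU : d ∈ U := Submodule.sum_mem _ fun i _ => by
          rw [← algebraMap_smul K (r i)]
          exact U.smul_mem _ (b i).2.1
        have hd'w : ι d' = w := by
          have h1 : ϖ' • ι d' = ϖ' • w := by
            rw [← hd]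
            calc ϖ' • ι d' = ϖ • ι d' := algebraMap_smul R' ϖ (ι d')
              _ = ι (ϖ • d') := (LinearMap.map_smul_of_tower ι ϖ d').symm
              _ = ι d := by rw [hdd']
          rw [← algebraMap_smul K' ϖ' (ι d'), ← algebraMap_smul K' ϖ' w] at h1
          exact smul_right_injective _ hϖK h1
        have hd'M : d' ∈ M := ⟨U.smul_mem _ hdU, by rw [hd'w]; exact hw⟩
        have h2 : b.repr (ϖ • ⟨d', hd'M⟩) = b.repr (∑ i, r i • b i) := by
          congr 1
          apply Subtype.ext
          simpa using hdd'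
        have h3 : r i = ϖ * b.repr ⟨d', hd'M⟩ i := by
          have h4 := DFunLike.congr_fun h2 i
          rw [map_smul, b.repr_sum_self] at h4
          simpa using h4.symm
        rw [h3, map_mul, hϖ'.maximalIdeal_eq]
        exact Ideal.mul_mem_right _ _ (Ideal.mem_span_singleton_self _)
      · rw [hsum, hacase, pow_succ', mul_smul]
        exact (hPmem _).mpr ⟨_, B.smul_mem _ hx, rfl⟩
    apply hmin a' (by omega)
    intro i
    have h1 := hmem i
    rw [hϖ'.maximalIdeal_eq, Ideal.mem_span_singleton'] at h1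
    obtain ⟨y, hy⟩ := h1
    refine ⟨y, ?_⟩
    have h2 := hz i
    rw [← hy, hacase, pow_succ', map_mul, mul_comm, mul_assoc] at h2
    exact mul_left_cancel₀ hϖK h2

end main

end Groth.Agent.Sga7.H331.LD
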