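import Groth.Agent.Sga7.H331.PB
import Groth.Agent.Sga7.H260.Div
import Groth.Agent.Ega2.AmpleTransfer

/-!
# More on nonvanishing loci of sections
-/

set_option autoImplicit false

universe u

open CategoryTheory CategoryTheory.Limits AlgebraicGeometry TopologicalSpace
open Groth.Agent.Fdesc.LocGen Groth.Agent.Ega2.Nv Groth.Agent.Ega2.Ample

namespace Groth.Agent.Sga7.H331.NvMore

variable {X : Scheme.{u}} {M : X.Modules}

/-- Local coefficient of a section near a point. -/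
theorem exists_coef {U : X.Opens} (hM : LocGen M U) (s : Γ(M, U)) {y : X} (hy : y ∈ U) :
    ∃ (W : X.Opens) (hW : W ≤ U) (e : Γ(M, W)) (a : Γ(X, W)), y ∈ W ∧ IsGen e ∧ res M hW s = a • e ∧
      W ⊓ nv M s = X.basicOpen a := by
  obtain ⟨W, e, hyW, hWU, he⟩ := hM y hy
  obtain ⟨a, ha⟩ := he.exists_eq (res M hWU s)
  exact ⟨W, hWU, e, a, hyW, he, ha, nv_inf_of_eq_smul s hWU he a ha⟩

theorem nv_smul_inf {U : X.Opens} (hM : LocGen M U) (a : Γ(X, U)) (s : Γ(M, U)) :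
    nv M (a • s) = nv M s ⊓ X.basicOpen a := by
  have key : ∀ y ∈ U, (y ∈ nv M (a • s) ↔ y ∈ nv M s ∧ y ∈ X.basicOpen a) := by
    intro y hy
    obtain ⟨W, hW, e, b, hyW, he, hb, hb'⟩ := exists_coef hM s hy
    have h1 := nv_inf_of_eq_smul (a • s) hW he (ores hW a * b) (by
      rw [res_smul, hb, smul_smul])
    rw [Scheme.basicOpen_mul, ← hb', Ega2.ExtCoeff.basicOpen_res] at h1
    constructor
    · intro h
      have h2 : y ∈ W ⊓ nv M (a • s) := ⟨hyW, h⟩
      rw [h1] at h2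
      exact ⟨h2.2.2, h2.1.2⟩
    · rintro ⟨h, h'⟩
      have h2 : y ∈ (W ⊓ X.basicOpen a) ⊓ (W ⊓ nv M s) := ⟨⟨hyW, h'⟩, hyW, h⟩
      rw [← h1] at h2
      exact h2.2
  ext y
  constructor
  · intro h
    exact (key y (nv_le _ _ h)).mp h
  · rintro ⟨h, h'⟩
    exact (key y (nv_le _ _ h)).mpr ⟨h, h'⟩

/-- If a sum of multiples of sections does not vanish at a point, then one of the sections does not. -/
theorem exists_mem_nv {U : X.Opens} (hM : LocGen M U) {n : ℕ} (c : Fin n → Γ(X, U))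
    (s : Fin n → Γ(M, U)) {y : X} (hy : y ∈ nv M (∑ i, c i • s i)) : ∃ i, y ∈ nv M (s i) := by
  obtain ⟨W, e, hyW, hWU, he⟩ := hM y (nv_le _ _ hy)
  choose a ha using fun i => he.exists_eq (res M hWU (s i))
  have h1 : res M hWU (∑ i, c i • s i) = (∑ i, ores hWU (c i) * a i) • e := by
    rw [map_sum, Finset.sum_smul]
    refine Finset.sum_congr rfl fun i _ => ?_
    rw [res_smul, ha, smul_smul]
  have h2 := nv_inf_of_eq_smul _ hWU he _ h1
  have h3 : y ∈ X.basicOpen (∑ i, ores hWU (c i) * a i) := by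
    rw [← h2]
    exact ⟨hyW, hy⟩
  rw [Scheme.mem_basicOpen _ _ _ hyW, map_sum] at h3
  by_contra hcon
  push Not at hcon
  have h4 : ∀ i, X.presheaf.germ W y hyW (ores hWU (c i) * a i) ∈
      IsLocalRing.maximalIdeal (X.presheaf.stalk y) := by
    intro i
    rw [map_mul]
    refine Ideal.mul_mem_left _ _ ?_
    rw [IsLocalRing.mem_maximalIdeal]
    intro hu
    have h5 : y ∈ X.basicOpen (a i) := (Scheme.mem_basicOpen _ _ _ hyW).mpr hu
    rw [← nv_inf_of_eq_smul (s i) hWU he _ (ha i)] at h5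
    exact hcon i h5.2
  exact (IsLocalRing.mem_maximalIdeal _).mp (Ideal.sum_mem _ fun i _ => h4 i) h3

theorem isAffineOpen_nv_add {U : X.Opens} (hM : LocGen M U) (s t : Γ(M, U))
    (hs : IsAffineOpen (nv M s)) (ht : IsAffineOpen (nv M t)) : IsAffineOpen (nv M (s + t)) := by
  have hgen := isGen_nv M (s + t)
  obtain ⟨a, ha⟩ := hgen.exists_eq (res M (nv_le M (s + t)) s)
  obtain ⟨b, hb⟩ := hgen.exists_eq (res M (nv_le M (s + t)) t)
  have hab : a + b = 1 := by
    apply hgen.ext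
    rw [add_smul, ← ha, ← hb, ← map_add, one_smul]
  have ha' := nv_inf_of_eq_smul s (nv_le M (s + t)) hgen a ha
  have hb' := nv_inf_of_eq_smul t (nv_le M (s + t)) hgen b hb
  refine isAffineOpen_of_isAffineOpen_basicOpen _ {a, b} ?_ ?_
  · rw [Ideal.eq_top_iff_one, Ideal.mem_span_pair]
    exact ⟨1, 1, by rw [one_mul, one_mul, hab]⟩
  · rintro c (rfl | rfl)
    · rw [← ha', inf_comm]
      exact isAffineOpen_inf_nv hM (s + t) hs (nv_le _ _)
    · rw [← hb', inf_comm]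
      exact isAffineOpen_inf_nv hM (s + t) ht (nv_le _ _)

theorem isAffineOpen_nv_smul {U : X.Opens} (hM : LocGen M U) (a : Γ(X, U)) (s : Γ(M, U))
    (hs : IsAffineOpen (nv M s)) : IsAffineOpen (nv M (a • s)) := by
  rw [nv_smul_inf hM]
  have h : X.basicOpen (ores (nv_le M s) a) = nv M s ⊓ X.basicOpen a := by
    rw [Ega2.ExtCoeff.basicOpen_res]
  rw [← h]
  exact hs.basicOpen _

/-- An open is locally principal. -/
def LocPrincipal (V : X.Opens) : Prop :=
  ∀ y : X, ∃ (W : X.Opens) (f : Γ(X, W)), y ∈ W ∧ X.basicOpen f = W ⊓ V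

theorem locPrincipal_nv (hM : LocGen M ⊤) (s : Γ(M, ⊤)) : LocPrincipal (nv M s) := by
  intro y
  obtain ⟨W, _, _, a, hyW, _, _, h⟩ := exists_coef hM s (y := y) trivial
  exact ⟨W, a, hyW, h.symm⟩

theorem LocPrincipal.preimage {Y : Scheme.{u}} (f : Y ⟶ X) {V : X.Opens} (hV : LocPrincipal V) :
    LocPrincipal (f ⁻¹ᵁ V) := by
  intro y
  obtain ⟨W, a, hyW, h⟩ := hV (f y)
  refine ⟨f ⁻¹ᵁ W, f.app W a, hyW, ?_⟩
  rw [← Scheme.preimage_basicOpen, h]
  rfl

end Groth.Agent.Sga7.H331.NvMore
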