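import Groth.Agent.Flat2F.BCSec
import Groth.Agent.Fga.SecComp
import Groth.Agent.Ega2.Nv
import Groth.Agent.Fdesc.LocGenPullback

/-!
# Pulling back sections of modules

`PB f M N` (for `f : X ⟶ Y`, `M` on `Y`, `N` on `X`): a compatible system of semilinear maps
`Γ(M, U) → Γ(N, V)`, `V ≤ f⁻¹ U`, taking generators to generators.
-/

set_option autoImplicit false

universe u

open CategoryTheory CategoryTheory.Limits AlgebraicGeometry TopologicalSpace
open Groth.Agent.Fdesc.LocGen Groth.Agent.Ega2.Nv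

namespace Groth.Agent.Sga7.H331

/-- Pull back of sections. -/
structure PB {X Y : Scheme.{u}} (f : X ⟶ Y) (M : Y.Modules) (N : X.Modules) where
  /-- the maps -/
  c : ∀ {U : Y.Opens} {V : X.Opens} (_ : V ≤ f ⁻¹ᵁ U), Γ(M, U) →+ Γ(N, V)
  smul : ∀ {U : Y.Opens} {V : X.Opens} (h : V ≤ f ⁻¹ᵁ U) (a : Γ(Y, U)) (m : Γ(M, U)),
    c h (a • m) = (f.appLE U V h a : Γ(X, V)) • c h m
  res_c : ∀ {U : Y.Opens} {V V' : X.Opens} (h : V ≤ f ⁻¹ᵁ U) (hV : V' ≤ V) (m : Γ(M, U)),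
    res N hV (c h m) = c (hV.trans h) m
  c_res : ∀ {U U' : Y.Opens} {V : X.Opens} (hU : U' ≤ U) (h : V ≤ f ⁻¹ᵁ U') (m : Γ(M, U)),
    c h (res M hU m) = c (h.trans (f.preimage_mono hU)) m
  gen : ∀ {U : Y.Opens} {V : X.Opens} (h : V ≤ f ⁻¹ᵁ U) (m : Γ(M, U)), IsGen m → IsGen (c h m)

namespace PB

variable {X Y Z : Scheme.{u}} {f : X ⟶ Y} {M : Y.Modules} {N : X.Modules}

theorem nv_c (c : PB f M N) {U : Y.Opens} {V : X.Opens} (h : V ≤ f ⁻¹ᵁ U) (hM : LocGen M U)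
    (m : Γ(M, U)) : nv N (c.c h m) = V ⊓ f ⁻¹ᵁ (nv M m) := by
  have key : ∀ y ∈ V, (y ∈ nv N (c.c h m) ↔ f y ∈ nv M m) := by
    intro y hy
    obtain ⟨W, e, hyW, hWU, he⟩ := hM (f y) (h hy)
    obtain ⟨a, ha⟩ := he.exists_eq (res M hWU m)
    have h1 := nv_inf_of_eq_smul m hWU he a ha
    have hV' : V ⊓ f ⁻¹ᵁ W ≤ f ⁻¹ᵁ W := inf_le_right
    have h2 := nv_inf_of_eq_smul (c.c h m) (inf_le_left : V ⊓ f ⁻¹ᵁ W ≤ V) (c.gen hV' e he)
      (f.appLE W (V ⊓ f ⁻¹ᵁ W) hV' a) (by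
        rw [c.res_c, ← c.smul, ← ha, c.c_res])
    rw [Scheme.basicOpen_appLE, ← h1] at h2
    constructor
    · intro hy'
      have : y ∈ (V ⊓ f ⁻¹ᵁ W) ⊓ nv N (c.c h m) := ⟨⟨hy, hyW⟩, hy'⟩
      rw [h2] at this
      exact this.2.2
    · intro hy'
      have : y ∈ (V ⊓ f ⁻¹ᵁ W) ⊓ f ⁻¹ᵁ (W ⊓ nv M m) := ⟨⟨hy, hyW⟩, hyW, hy'⟩
      rw [← h2] at this
      exact this.2
  ext y
  constructor
  · intro hy
    exact ⟨nv_le _ _ hy, (key y (nv_le _ _ hy)).mp hy⟩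
  · rintro ⟨hy, hy'⟩
    exact (key y hy).mpr hy'

/-- The pull back of sections to the pull back of a module. -/
noncomputable def ofSec (f : X ⟶ Y) (M : Y.Modules) : PB f M ((Scheme.Modules.pullback f).obj M) where
  c h := VarietyB.PullSec.sec f M h
  smul h a m := VarietyB.PullSec.sec_smul f M h a m
  res_c h hV m := Flat2F.BCSec.res_sec f M h hV m
  c_res hU h m := Flat2F.BCSec.sec_res' f M h hU m
  gen h _ hm := (hm.pullSec f).res h

/-- Changing the target by an isomorphism. -/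
noncomputable def ofIso (c : PB f M N) {N' : X.Modules} (e : N ≅ N') : PB f M N' where
  c {U V} h := (e.hom.app V).hom.comp (c.c h)
  smul {U V} h a m := by
    change e.hom.app V (c.c h (a • m)) = _ • e.hom.app V (c.c h m)
    rw [c.smul, Scheme.Modules.Hom.app_smul]
  res_c {U V V'} h hV m := by
    change res N' hV (e.hom.app V (c.c h m)) = e.hom.app V' (c.c _ m)
    rw [← app_res, c.res_c]
  c_res {U U' V} hU h m := by
    change e.hom.app V (c.c h (res M hU m)) = e.hom.app V (c.c _ m)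
    rw [c.c_res]
  gen {U V} h m hm := (c.gen h m hm).app e.hom

theorem ofIso_c (c : PB f M N) {N' : X.Modules} (e : N ≅ N') {U : Y.Opens} {V : X.Opens}
    (h : V ≤ f ⁻¹ᵁ U) (m : Γ(M, U)) : (c.ofIso e).c h m = e.hom.app V (c.c h m) := rfl

/-- Pull back of sections between pull backs of the same module. -/
noncomputable def ofTr (k : X ⟶ Y) (a : Y ⟶ Z) (a' : X ⟶ Z) (h : k ≫ a = a') (E : Z.Modules) :
    PB k ((Scheme.Modules.pullback a).obj E) ((Scheme.Modules.pullback a').obj E) where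
  c e := Flat2F.BCSec.tr k a a' h E e
  smul e r m := Flat2F.BCSec.tr_smul k a a' h E e r m
  res_c e hV m := Flat2F.BCSec.res_tr k a a' h E e hV m
  c_res hU e m := Flat2F.BCSec.tr_res k a a' h E e hU m
  gen e _ hm := ((hm.pullSec k).res e).app (Flat2F.BCSec.cmp k a a' h E).hom

end PB

end Groth.Agent.Sga7.H331
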