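import Mathlib.AlgebraicGeometry.Morphisms.Flat
import Mathlib.AlgebraicGeometry.Morphisms.Affine

/-!
# Rings of sections over affine opens and base change
-/

set_option autoImplicit false

universe u

open CategoryTheory CategoryTheory.Limits AlgebraicGeometry

namespace Groth.Agent.Sga7.H331.Sec

variable {A A' : CommRingCat.{u}} {Y Y' : Scheme.{u}} (q : Y ⟶ Spec A) (q' : Y' ⟶ Spec A')

/-- `A → Γ(Y, U)`. -/
noncomputable def co (U : Y.Opens) : A ⟶ Γ(Y, U) :=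
  (Scheme.ΓSpecIso A).inv ≫ q.appLE ⊤ U le_top

@[reassoc]
theorem toSpecΓ_co (U : Y.Opens) : U.toSpecΓ ≫ Spec.map (co q U) = U.ι ≫ q := by
  rw [co, Spec.map_comp, Scheme.Opens.toSpecΓ_SpecMap_appLE_assoc, Scheme.Opens.toSpecΓ_top,
    Category.assoc, toSpecΓ_SpecMap_ΓSpecIso_inv, Category.comp_id, Scheme.Hom.resLE_comp_ι]

@[reassoc]
theorem co_appLE {φ : A ⟶ A'} {h : Y' ⟶ Y} (e : h ≫ q = q' ≫ Spec.map φ) {V : Y.Opens} {V' : Y'.Opens}
    (hV : V' ≤ h ⁻¹ᵁ V) : co q V ≫ h.appLE V V' hV = φ ≫ co q' V' := by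
  rw [co, Category.assoc, Scheme.Hom.appLE_comp_appLE]
  have h1 : (h ≫ q).appLE ⊤ V' le_top = (q' ≫ Spec.map φ).appLE ⊤ V' le_top := by
    simp only [e]
  have h2 : (q' ≫ Spec.map φ).appLE ⊤ V' le_top = (Spec.map φ).appTop ≫ q'.appLE ⊤ V' le_top :=
    Scheme.Hom.comp_appLE _ _ _ _ _
  rw [h1, h2, ← Scheme.ΓSpecIso_inv_naturality_assoc]
  rfl

@[reassoc]
theorem co_map {U U' : Y.Opens} (h : U' ≤ U) :
    co q U ≫ Y.presheaf.map (homOfLE h).op = co q U' := by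
  rw [co, Category.assoc, Scheme.Hom.appLE_map]
  rfl

/-- The ring of sections over the preimage of an affine open in a base change. -/
theorem isPushout_co {φ : A ⟶ A'} {h : Y' ⟶ Y} (H : IsPullback h q' q (Spec.map φ)) {V : Y.Opens}
    (hV : IsAffineOpen V) {V' : Y'.Opens} (hVV : V' = h ⁻¹ᵁ V) :
    IsPushout φ (co q V) (co q' V') (h.appLE V V' hVV.le) := by
  have hUY : V' = h ⁻¹ᵁ V ⊓ q' ⁻¹ᵁ ⊤ := by rw [hVV]; simp
  have h1 := isIso_pushoutSection_of_isAffineOpen H (US := ⊤) (UT := ⊤) (UX := V) (UY := V') le_top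
    le_top hUY (isAffineOpen_top _) (isAffineOpen_top _) hV
  have h2 := ((isIso_pushoutSection_iff ..).1 h1).flip
  refine IsPushout.of_iso h2 (Scheme.ΓSpecIso A) (Scheme.ΓSpecIso A')
    (Iso.refl _) (Iso.refl _) ?_ ?_ ?_ ?_
  · have : (Spec.map φ).appLE ⊤ ⊤ le_top = (Spec.map φ).appTop := Scheme.Hom.appLE_eq_app _
    rw [this]
    exact Scheme.ΓSpecIso_naturality φ
  · rw [Iso.refl_hom, Category.comp_id, co, Iso.hom_inv_id_assoc]
  · rw [Iso.refl_hom, Category.comp_id, co, Iso.hom_inv_id_assoc]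
  · rw [Iso.refl_hom, Iso.refl_hom, Category.comp_id, Category.id_comp]

/-- A pushout square of rings gives a pullback square of schemes. -/
theorem isPullback_of_isPushout {S C : CommRingCat.{u}} (φ : S ⟶ A) (σ : S ⟶ C) {U : Y.Opens}
    (hU : IsAffineOpen U) (ρ : C ⟶ Γ(Y, U)) (h : IsPushout σ φ ρ (co q U)) :
    IsPullback (U.toSpecΓ ≫ Spec.map ρ) (U.ι ≫ q) (Spec.map σ) (Spec.map φ) := by
  have h1 := isPullback_SpecMap_of_isPushout _ _ _ _ h
  refine IsPullback.of_iso h1 hU.isoSpec.symm (Iso.refl _) (Iso.refl _) (Iso.refl _) ?_ ?_ ?_ ?_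
  · rw [Iso.refl_hom, Category.comp_id, Iso.symm_hom, ← Category.assoc, ← hU.isoSpec_hom,
      Iso.inv_hom_id, Category.id_comp]
  · rw [Iso.refl_hom, Category.comp_id, Iso.symm_hom, ← toSpecΓ_co, ← Category.assoc, ← hU.isoSpec_hom,
      Iso.inv_hom_id, Category.id_comp]
  · simp
  · simp

end Groth.Agent.Sga7.H331.Sec
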